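import Cfsg.Agent.Lib.Fusion68.HallJankoTwoCert
import Cfsg.Agent.Lib.Fusion48.TwoFrame

/-!
The 2-fusion system of the group of order 604800 on a hundred points is simple.

A Sylow subgroup `P` of order 128 is given by a list.  Its centre is `{1, z}`; the class of `z` has at
least 315 members, so 15 cosets of `P` fill the centraliser of `z`, which contains the normaliser of `P`
and is generated by 2-elements normalising the self-centralising subgroup of order 32.
-/

set_option autoImplicit false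
set_option maxRecDepth 20000

namespace CfsgLib.Fusion68.HallJankoTwo

open Cfsg CfsgLib.Sporadic CfsgLib.Sporadic.PermCode CfsgLib.Fusion48
open CfsgLib.Sporadic.HallJanko (one gens hone)

section Group

variable {G : Type*} [Group G] [Finite G] (ι : G →* Function.End (Fin 100))

/-- The Sylow subgroup. -/
def pSub : Subgroup G := Subgroup.closure (genSet ι dec pGens)

/-- The subgroup of order 32. -/
def rSub : Subgroup G := Subgroup.closure (genSet ι dec rGens)

variable (hι : Function.Injective ι) (hg : ∀ c ∈ gens, CodeMem ι dec (⊤ : Subgroup G) c)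
  (hcard : Nat.card G = 604800)
include hι hg

omit hg in
theorem code_eq {a b : ℕ} {x : G} (ha : canon a = true) (hb : canon b = true) (h1 : ι x = dec a)
    (h2 : ι x = dec b) : a = b :=
  hinj a b ha hb (h1.symm.trans h2)

theorem pGens_mem : ∀ c ∈ pGens, CodeMem ι dec (pSub ι) c := by
  have hw := words_ok
  simp only [Bool.and_eq_true, beq_iff_eq] at hw
  intro c hc
  refine codeMem_genSet (H := (⊤ : Subgroup G)) (fun d hd => ?_) c hc
  rw [← hw.1.1.1.1.1.1] at hd
  obtain ⟨w, -, rfl⟩ := List.mem_map.1 hd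
  exact codeMem_genWord hmul hone hg w

theorem pList_mem : ∀ c ∈ pList, CodeMem ι dec (pSub ι) c := by
  have hw := words_ok
  simp only [Bool.and_eq_true, beq_iff_eq] at hw
  intro c hc
  rw [← hw.1.1.1.1.1.2] at hc
  obtain ⟨w, -, rfl⟩ := List.mem_map.1 hc
  exact codeMem_genWord hmul hone (pGens_mem ι hι hg) w

theorem mem_pSub {x : G} : x ∈ pSub ι ↔ ∃ c ∈ pList, ι x = dec c := by
  have hp := p_ok
  simp only [Bool.and_eq_true, beq_iff_eq, List.all_eq_true, List.contains_iff_mem] at hp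
  constructor
  · intro hx
    obtain ⟨t, ⟨c, hc, ht⟩, k, hk, rfl⟩ := closure_subset_mul (S := genSet ι dec pGens)
      (T := {t | ∃ c ∈ pList, ι t = dec c}) (K := (⊥ : Subgroup G))
      ⟨one, hp.1.1.1.1.1.1.2, by rw [map_one, hone]⟩
      (fun s hs t ht => by
        obtain ⟨d, hd, hs⟩ := hs
        obtain ⟨c, hc, ht⟩ := ht
        exact ⟨s * t, ⟨_, hp.1.1.1.2 d hd c hc, by rw [map_mul, hs, ht, hmul]⟩, 1, one_mem _,
          (mul_one _).symm⟩) hx
    rw [SetLike.mem_coe, Subgroup.mem_bot] at hk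
    exact ⟨c, hc, by rw [hk]; simpa using ht⟩
  · rintro ⟨c, hc, hx⟩
    obtain ⟨y, hy, e⟩ := pList_mem ι hι hg c hc
    rwa [hι (hx.trans e.symm)]

theorem card_pSub : Nat.card (pSub ι) = 128 := by
  have hp := p_ok
  simp only [Bool.and_eq_true, beq_iff_eq, List.all_eq_true] at hp
  obtain ⟨⟨⟨⟨⟨⟨⟨⟨hinc, hlen⟩, -⟩, -⟩, hcan⟩, -⟩, -⟩, -⟩, -⟩ := hp
  choose y hy hye using fun k : Fin pList.length => pList_mem ι hι hg _ (List.getElem_mem k.2)
  let f : Fin pList.length → pSub ι := fun k => ⟨y k, hy k⟩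
  have hf : Function.Bijective f := by
    refine ⟨fun a b hab => ?_, fun x => ?_⟩
    · have e : y a = y b := congrArg Subtype.val hab
      exact Fin.ext ((nodup_of_incB hinc).getElem_inj_iff.1
        (code_eq ι hι (hcan _ (List.getElem_mem a.2)) (hcan _ (List.getElem_mem b.2)) (hye a)
          (by rw [e, hye b])))
    · obtain ⟨c, hc, hx⟩ := (mem_pSub ι hι hg).1 x.2
      obtain ⟨k, hk, rfl⟩ := List.getElem_of_mem hc
      exact ⟨⟨k, hk⟩, Subtype.ext (hι ((hye ⟨k, hk⟩).trans hx.symm))⟩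
  rw [← Nat.card_congr (Equiv.ofBijective f hf), Nat.card_fin, hlen]

theorem rGens_mem : ∀ c ∈ rGens, CodeMem ι dec (pSub ι) c := by
  have hw := words_ok
  simp only [Bool.and_eq_true, beq_iff_eq] at hw
  intro c hc
  rw [← hw.1.1.1.1.2] at hc
  obtain ⟨w, -, rfl⟩ := List.mem_map.1 hc
  exact codeMem_genWord hmul hone (pGens_mem ι hι hg) w

theorem rSub_le : rSub ι ≤ pSub ι := genSet_closure_le hι (rGens_mem ι hι hg)

theorem two_spec {c : ℕ} (hc : c ∈ twoGens) :
    ∃ t : G, ι t = dec c ∧ t ∈ Subgroup.normalizer (rSub ι : Set G) ∧ ∃ k : ℕ, orderOf t = 2 ^ k := by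
  have hw := words_ok
  simp only [Bool.and_eq_true, beq_iff_eq] at hw
  have ht2 := two_ok
  simp only [Bool.and_eq_true, List.all_eq_true, beq_iff_eq, List.mem_range] at ht2
  obtain ⟨⟨-, hord⟩, hconj⟩ := ht2
  obtain ⟨t, -, ht⟩ : CodeMem ι dec (⊤ : Subgroup G) c := by
    rw [← hw.1.1.1.2] at hc
    obtain ⟨w, -, rfl⟩ := List.mem_map.1 hc
    exact codeMem_genWord hmul hone hg w
  refine ⟨t, ht, ?_, ?_⟩
  · obtain ⟨i, hi, rfl⟩ := List.getElem_of_mem hc
    have hle : rSub ι ≤ (rSub ι).comap (MulAut.conj t).toMonoidHom := by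
      refine (Subgroup.closure_le _).2 fun x ⟨d, hd, hx⟩ => ?_
      obtain ⟨j, hj, rfl⟩ := List.getElem_of_mem hd
      have he := hconj i hi j hj
      rw [List.getD_eq_getElem _ _ hi, List.getD_eq_getElem _ _ hj] at he
      obtain ⟨y, hy, hye⟩ := codeMem_genWord hmul hone
        (codeMem_genSet (rGens_mem ι hι hg)) ((twoConj.getD i []).getD j [])
      have e : t * x = y * t := hι (by rw [map_mul, map_mul, ht, hx, hye, ← hmul, ← hmul, he])
      show t * x * t⁻¹ ∈ rSub ι
      rw [e, mul_inv_cancel_right]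
      exact hy
    exact Subgroup.mem_normalizer_fintype fun x hx => hle hx
  · have h8 : t ^ 8 = 1 := by
      refine hι ?_
      have key : ∀ k, ι (t ^ k) = dec (genWord mul one [c] (List.replicate k 0)) := by
        intro k
        induction k with
        | zero => rw [pow_zero, map_one]; exact hone.symm
        | succ k ih =>
          rw [pow_succ', map_mul, ht, ih, List.replicate_succ, genWord, hmul]
          rfl
      rw [key 8, hord c hc, hone, map_one]
    obtain ⟨k, -, hk⟩ := (Nat.dvd_prime_pow Nat.prime_two).1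
      (show orderOf t ∣ 2 ^ 3 from orderOf_dvd_of_pow_eq_one h8)
    exact ⟨k, hk⟩

theorem two_mem_twoGen {c : ℕ} (hc : c ∈ twoGens) : CodeMem ι dec (twoGen (rSub ι)) c :=
  let ⟨t, ht, hn, hk⟩ := two_spec ι hι hg hc
  ⟨t, Subgroup.subset_closure ⟨hn, hk⟩, ht⟩

theorem pSub_le_twoGen : pSub ι ≤ twoGen (rSub ι) := by
  have ht2 := two_ok
  simp only [Bool.and_eq_true, List.all_eq_true, List.contains_iff_mem] at ht2
  exact genSet_closure_le hι fun c hc => two_mem_twoGen ι hι hg (ht2.1.1 c hc)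

theorem pSub_le_normalizer : pSub ι ≤ Subgroup.normalizer (rSub ι : Set G) := by
  have ht2 := two_ok
  simp only [Bool.and_eq_true, List.all_eq_true, List.contains_iff_mem] at ht2
  exact genSet_closure_le hι fun c hc =>
    let ⟨t, ht, hn, _⟩ := two_spec ι hι hg (ht2.1.1 c hc)
    ⟨t, hn, ht⟩

theorem exists_z : ∃ z : G, ι z = dec zCode ∧ z ∈ pSub ι ∧ z ∈ rSub ι ∧ z ≠ 1 := by
  have hp := p_ok
  simp only [Bool.and_eq_true, beq_iff_eq, List.contains_iff_mem, bne_iff_ne] at hp
  have hw := words_ok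
  simp only [Bool.and_eq_true, beq_iff_eq] at hw
  obtain ⟨z, hzR, hz⟩ : CodeMem ι dec (rSub ι) zCode := by
    rw [← hw.2]
    exact codeMem_genWord hmul hone (codeMem_genSet (rGens_mem ι hι hg)) _
  refine ⟨z, hz, rSub_le ι hι hg hzR, hzR, fun h1 => hp.1.1.2 ?_⟩
  exact code_eq ι hι hp.2 hp.1.2 hz (by rw [h1, map_one, hone])

theorem centre {w : G} (hw : w ∈ pSub ι) (hc : ∀ y ∈ pSub ι, w * y = y * w) {z : G}
    (hz : ι z = dec zCode) : w = 1 ∨ w = z := by
  obtain ⟨c, hcP, hwc⟩ := (mem_pSub ι hι hg).1 hw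
  have h := List.all_eq_true.1 centre_ok c hcP
  simp only [Bool.or_eq_true, beq_iff_eq, List.any_eq_true, bne_iff_ne] at h
  rcases h with (rfl | rfl) | ⟨d, hd, hne⟩
  · exact Or.inl (hι (by rw [hwc, hone, map_one]))
  · exact Or.inr (hι (hwc.trans hz.symm))
  · obtain ⟨y, hy, hye⟩ := pGens_mem ι hι hg d hd
    refine absurd (code_eq ι hι (canon_mul _ _) (canon_mul _ _) (x := w * y) ?_ ?_) hne
    · rw [map_mul, hwc, hye, hmul]
    · rw [hc y hy, map_mul, hwc, hye, hmul]

theorem cls_conj {z : G} (hz : ι z = dec zCode) : ∀ (l : List (ℕ × ℕ × ℕ)) (K : List ℕ),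
    (∀ c ∈ K, ∃ g : G, ι (g * z * g⁻¹) = dec c) → clsOk K l = true →
      ∀ q ∈ l, ∃ g : G, ι (g * z * g⁻¹) = dec q.2.2 := by
  intro l
  induction l with
  | nil => intro K _ _ q hq; exact absurd hq (List.not_mem_nil)
  | cons a r ih =>
    obtain ⟨p, j, y⟩ := a
    intro K hK h
    simp only [clsOk, Bool.and_eq_true, beq_iff_eq] at h
    obtain ⟨s, -, hs⟩ : CodeMem ι dec (⊤ : Subgroup G) (gens.getD j one) := by
      rcases Nat.lt_or_ge j gens.length with hlt | hge
      · rw [List.getD_eq_getElem _ _ hlt]; exact hg _ (List.getElem_mem hlt)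
      · rw [List.getD_eq_default _ _ hge]; exact codeMem_one hone
    obtain ⟨g, hgx⟩ : ∃ g : G, ι (g * z * g⁻¹) = dec (K.getD p zCode) := by
      rcases Nat.lt_or_ge p K.length with hlt | hge
      · rw [List.getD_eq_getElem _ _ hlt]; exact hK _ (List.getElem_mem hlt)
      · rw [List.getD_eq_default _ _ hge]; exact ⟨1, by simpa using hz⟩
    have hy : ι (s * g * z * (s * g)⁻¹) = dec y := by
      have e1 : dec y * ι s = ι s * ι (g * z * g⁻¹) := by rw [hs, hgx, ← hmul, ← hmul, h.1]
      calc ι (s * g * z * (s * g)⁻¹) = ι s * ι (g * z * g⁻¹) * ι s⁻¹ := by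
            rw [← map_mul, ← map_mul]; exact congrArg ι (by group)
        _ = dec y := by rw [← e1, mul_assoc, ← map_mul, mul_inv_cancel, map_one, mul_one]
    intro q hq
    rcases List.mem_cons.1 hq with rfl | hq
    · exact ⟨s * g, hy⟩
    · refine ih _ (fun c hc => ?_) h.2 q hq
      rcases List.mem_append.1 hc with hc | hc
      · exact hK c hc
      · rw [List.mem_singleton] at hc
        exact ⟨s * g, hc ▸ hy⟩

theorem commutes_z {z : G} (hz : ι z = dec zCode) {y : G} (hy : y ∈ pSub ι) : y * z = z * y := by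
  refine Subgroup.mem_centralizer_singleton_iff.1
    ((genSet_closure_le (H := Subgroup.centralizer {z}) hι fun d hd => ?_) hy)
  obtain ⟨v, -, hve⟩ := pGens_mem ι hι hg d hd
  refine ⟨v, Subgroup.mem_centralizer_singleton_iff.2 (hι ?_), hve⟩
  rw [map_mul, map_mul, hve, hz, ← hmul, ← hmul, beq_iff_eq.1 (List.all_eq_true.1 z_ok d hd)]

include hcard in
theorem card_centralizer_le {z : G} (hz : ι z = dec zCode) :
    Nat.card (Subgroup.centralizer {z}) ≤ 1920 := by
  have hc := cls_ok
  simp only [Bool.and_eq_true, beq_iff_eq, List.all_eq_true, List.contains_iff_mem] at hc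
  obtain ⟨⟨⟨hsteps, hlen⟩, hinc⟩, hall⟩ := hc
  have hconj := cls_conj ι hι hg hz cls.tail [zCode]
    (fun c hc => ⟨1, by rw [List.mem_singleton.1 hc]; simpa using hz⟩) hsteps
  have hex : ∀ k : Fin clsSorted.length, ∃ g : G, ι (g * z * g⁻¹) = dec clsSorted[k] := fun k => by
    rcases List.mem_cons.1 (hall _ (List.getElem_mem k.2)).1 with e | e
    · exact ⟨1, by rw [Fin.getElem_fin, e]; simpa using hz⟩
    · obtain ⟨q, hq, e'⟩ := List.mem_map.1 e
      rw [Fin.getElem_fin, ← e']
      exact hconj q hq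
  choose g hge using hex
  let f : Fin clsSorted.length → G ⧸ Subgroup.centralizer {z} := fun k => QuotientGroup.mk (g k)
  have hf : Function.Injective f := by
    intro a b hab
    have hmem := QuotientGroup.eq.1 hab
    rw [Subgroup.mem_centralizer_singleton_iff] at hmem
    have e : g a * z * (g a)⁻¹ = g b * z * (g b)⁻¹ := by
      calc g a * z * (g a)⁻¹ = g a * (z * ((g a)⁻¹ * g b)) * (g b)⁻¹ := by group
        _ = g a * ((g a)⁻¹ * g b * z) * (g b)⁻¹ := by rw [hmem]
        _ = g b * z * (g b)⁻¹ := by group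
    exact Fin.ext ((nodup_of_incB hinc).getElem_inj_iff.1
      (code_eq ι hι (hall _ (List.getElem_mem a.2)).2 (hall _ (List.getElem_mem b.2)).2 (hge a)
        (by rw [e]; exact hge b)))
  have h315 := Nat.card_le_card_of_injective f hf
  rw [Nat.card_fin, hlen, ← Subgroup.index_eq_card] at h315
  have h := (Subgroup.centralizer {z}).card_mul_index
  rw [hcard] at h
  nlinarith

include hcard in
theorem centralizer_cosets {z : G} (hz : ι z = dec zCode) (hzP : z ∈ pSub ι) {c : G}
    (hc : c * z = z * c) :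
    ∃ i < 15, ∃ r x : G, ι r = dec (reps.getD i one) ∧ x ∈ pSub ι ∧ c = r * x := by
  have hr := reps_ok
  simp only [Bool.and_eq_true, beq_iff_eq, List.all_eq_true, List.mem_range, Bool.or_eq_true,
    Bool.not_eq_true', List.contains_eq_mem, decide_eq_false_iff_not] at hr
  obtain ⟨hlen, hr⟩ := hr
  have hw := words_ok
  simp only [Bool.and_eq_true, beq_iff_eq] at hw
  have hex : ∀ i : Fin 15, ∃ r : G, ι r = dec (reps.getD i one) := by
    intro i
    have hm : reps.getD i one ∈ reps := by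
      rw [List.getD_eq_getElem _ _ (by omega : i.1 < reps.length)]; exact List.getElem_mem _
    obtain ⟨v, -, e⟩ : ∃ v ∈ repWords, genWord mul one twoGens v = reps.getD i one := by
      refine List.mem_map.1 ?_
      rw [hw.1.1.2]; exact hm
    obtain ⟨r, -, hre⟩ := codeMem_genWord hmul hone (fun d hd => two_mem_twoGen ι hι hg hd) v
    exact ⟨r, by rw [hre, e]⟩
  choose r hre using hex
  have hrz : ∀ i, r i ∈ Subgroup.centralizer {z} := fun i => by
    rw [Subgroup.mem_centralizer_singleton_iff]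
    exact hι (by rw [map_mul, map_mul, hre, hz, ← hmul, ← hmul, (hr i i.2).1.1])
  have hPz : pSub ι ≤ Subgroup.centralizer {z} := genSet_closure_le hι fun d hd => by
    obtain ⟨y, hy, hye⟩ := pGens_mem ι hι hg d hd
    refine ⟨y, ?_, hye⟩
    rw [Subgroup.mem_centralizer_singleton_iff]
    exact commutes_z ι hι hg hz hy
  let f : Fin 15 × pSub ι → Subgroup.centralizer {z} := fun q =>
    ⟨r q.1 * q.2, mul_mem (hrz q.1) (hPz q.2.2)⟩
  have hf : Function.Injective f := by
    rintro ⟨i, x⟩ ⟨j, y⟩ hab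
    have e : r i * (x : G) = r j * y := congrArg Subtype.val hab
    rcases eq_or_ne i j with rfl | hne
    · exact Prod.ext rfl (Subtype.ext (mul_left_cancel e))
    obtain ⟨d, hd, hde⟩ := (mem_pSub ι hι hg).1 (mul_mem x.2 (inv_mem y.2))
    have hinv : ι (r i)⁻¹ = dec (repInv.getD i one) := by
      calc ι (r i)⁻¹ = dec (mul (repInv.getD i one) (reps.getD i one)) * ι (r i)⁻¹ := by
            rw [(hr i i.2).1.2, hone, one_mul]
        _ = dec (repInv.getD i one) := by
            rw [hmul, ← hre i, mul_assoc, ← map_mul, mul_inv_cancel, map_one, mul_one]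
    have hp := p_ok
    simp only [Bool.and_eq_true, List.all_eq_true] at hp
    have hd' : d = mul (repInv.getD i one) (reps.getD j one) := by
      refine code_eq ι hι (hp.1.1.1.1.2 d hd) (canon_mul _ _) hde ?_
      rw [hmul, ← hinv, ← hre j, ← map_mul]
      refine congrArg ι ?_
      rw [eq_inv_mul_iff_mul_eq, ← mul_assoc, e, mul_inv_cancel_right]
    rcases (hr i i.2).2 j j.2 with h | h
    · exact absurd (Fin.ext h) hne
    · exact absurd (hd' ▸ hd) h
  have hle := card_centralizer_le ι hι hg hcard hz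
  obtain ⟨⟨i, x⟩, hix⟩ := (hf.bijective_of_nat_card_le (by
    rw [Nat.card_prod, Nat.card_fin, card_pSub ι hι hg]; exact hle)).2
      ⟨c, Subgroup.mem_centralizer_singleton_iff.2 hc⟩
  exact ⟨i, i.2, r i, x, hre i, x.2, (congrArg Subtype.val hix).symm⟩

theorem rep_mem_twoGen {i : ℕ} (hi : i < 15) {r : G} (hr : ι r = dec (reps.getD i one)) :
    r ∈ twoGen (rSub ι) := by
  have hw := words_ok
  simp only [Bool.and_eq_true, beq_iff_eq] at hw
  have hl := reps_ok
  simp only [Bool.and_eq_true, beq_iff_eq] at hl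
  have hm : reps.getD i one ∈ reps := by
    rw [List.getD_eq_getElem _ _ (by omega : i < reps.length)]; exact List.getElem_mem _
  obtain ⟨v, -, e⟩ : ∃ v ∈ repWords, genWord mul one twoGens v = reps.getD i one := by
    refine List.mem_map.1 ?_
    rw [hw.1.1.2]; exact hm
  obtain ⟨r', hr', hre⟩ := codeMem_genWord hmul hone (fun d hd => two_mem_twoGen ι hι hg hd) v
  rwa [hι (show ι r = ι r' by rw [hr, hre, e])]

include hcard in
theorem centric {z : G} (hz : ι z = dec zCode) (hzP : z ∈ pSub ι) (hzR : z ∈ rSub ι) {c : G}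
    (hc : ∀ x ∈ rSub ι, c * x = x * c) : c ∈ rSub ι := by
  obtain ⟨i, hi, r, x, hre, hx, rfl⟩ := centralizer_cosets ι hι hg hcard hz hzP (hc z hzR)
  obtain ⟨d, hd, hxd⟩ := (mem_pSub ι hι hg).1 hx
  obtain ⟨k, hk, rfl⟩ := List.getElem_of_mem hd
  have hp := p_ok
  simp only [Bool.and_eq_true, beq_iff_eq] at hp
  have hlen : pList.length = 128 := hp.1.1.1.1.1.1.1.2
  have hco := List.all_eq_true.1 (List.all_eq_true.1 cent_ok i (List.mem_range.2 hi)) k
    (List.mem_range.2 (hlen ▸ hk))
  have hcode : ι (r * x) = dec (mul (reps.getD i one) (pList.getD k one)) := by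
    rw [map_mul, hre, hxd, hmul, List.getD_eq_getElem _ _ hk]
  simp only [centOk] at hco
  set v := (wit.getD i []).getD k 0
  cases hb : Nat.blt v (rGens.length * 128) with
  | false =>
    rw [hb, cond_false, Bool.or_eq_true, beq_iff_eq, beq_iff_eq] at hco
    rcases hco with e | e
    · rw [hι (show ι (r * x) = ι 1 by rw [hcode, e, hone, map_one])]
      exact one_mem _
    · rw [hι (show ι (r * x) = ι z by rw [hcode, e, hz])]
      exact hzR
  | true =>
    rw [hb, cond_true, bne_iff_ne] at hco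
    have hv : v / 128 < rGens.length := Nat.div_lt_iff_lt_mul (by norm_num) |>.2 (Nat.blt_eq ▸ hb)
    rw [List.getD_eq_getElem _ _ hv] at hco
    obtain ⟨h, hh, hhe⟩ := codeMem_genSet (rGens_mem ι hι hg) _ (List.getElem_mem hv)
    refine absurd ?_ hco
    have e := congrFun (congrArg ι (hc h hh)) ⟨v % 128 % 100, Nat.mod_lt _ (by norm_num)⟩
    simp only [map_mul] at e
    rw [hhe, hre, hxd] at e
    rw [List.getD_eq_getElem pList one hk]
    exact congrArg Fin.val e

theorem gens_mem_closed {K : Subgroup G} (hcl : ∀ g : G, ∀ x ∈ K, g * x * g⁻¹ ∈ pSub ι →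
    g * x * g⁻¹ ∈ K) : ∀ (l : List (List ℕ × List ℕ × ℕ)) (Ks : List ℕ),
      (∀ c ∈ Ks, CodeMem ι dec K c) → stepsOk Ks l = true → ∀ c ∈ pGens, CodeMem ι dec K c := by
  intro l
  induction l with
  | nil =>
    intro Ks hKs h c hc
    rw [stepsOk, beq_iff_eq] at h
    rw [← h] at hc
    obtain ⟨w, -, rfl⟩ := List.mem_map.1 hc
    exact codeMem_genWord hmul hone hKs w
  | cons a r ih =>
    obtain ⟨g, w, x⟩ := a
    intro Ks hKs h
    simp only [stepsOk, Bool.and_eq_true, beq_iff_eq, List.contains_iff_mem] at h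
    obtain ⟨⟨hx, hconj⟩, hrest⟩ := h
    obtain ⟨y, hy, hye⟩ := pList_mem ι hι hg x hx
    obtain ⟨k, hk, hke⟩ := codeMem_genWord hmul hone hKs w
    obtain ⟨t, -, hte⟩ := codeMem_genWord hmul hone hg g
    have e : t * k * t⁻¹ = y := by
      rw [mul_inv_eq_iff_eq_mul]
      exact hι (by rw [map_mul, map_mul, hte, hke, hye, ← hmul, ← hmul, hconj])
    refine ih _ (fun c hc => ?_) hrest
    rcases List.mem_append.1 hc with hc | hc
    · exact hKs c hc
    · rw [List.mem_singleton] at hc
      exact ⟨y, e ▸ hcl t k hk (e ▸ hy), hc ▸ hye⟩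

include hcard in
theorem isSimple (S : Sylow 2 G) : (groupFusionSystem (S : Subgroup G)).IsSimple 2 := by
  have : Fact (Nat.Prime 2) := ⟨Nat.prime_two⟩
  have hp : IsPGroup 2 (pSub ι) := IsPGroup.of_card (n := 7) (by rw [card_pSub ι hι hg]; norm_num)
  obtain ⟨Q, hQ⟩ := hp.exists_le_sylow
  have hQP : (Q : Subgroup G) = pSub ι := by
    obtain ⟨k, hk⟩ := IsPGroup.iff_card.1 Q.isPGroup'
    have hd : 2 ^ k ∣ 2 ^ 7 * 4725 := by
      rw [← hk, show 2 ^ 7 * 4725 = Nat.card G by rw [hcard]; norm_num]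
      exact Subgroup.card_subgroup_dvd_card _
    have hd' : 2 ^ k ≤ 2 ^ 7 := Nat.le_of_dvd (by norm_num)
      ((Nat.Coprime.pow_left k (by decide)).dvd_of_dvd_mul_right hd)
    exact (Subgroup.eq_of_le_of_card_ge hQ (by rw [card_pSub ι hι hg, hk]; simpa using hd')).symm
  obtain ⟨z, hz, hzP, hzR, hz1⟩ := exists_z ι hι hg
  refine isSimple_of_frame S Q ?_ z ?_ ?_ ?_
  · rw [hQP]
    intro h
    have := card_pSub ι hι hg
    rw [h, Subgroup.card_bot] at this
    omega
  · rw [hQP]
    exact fun w hw hc => centre ι hι hg hw hc hz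
  · rw [hQP]
    intro K hK hcl
    exact genSet_closure_le hι (gens_mem_closed ι hι hg hcl steps [zCode]
      (fun c hc => ⟨z, hK, List.mem_singleton.1 hc ▸ hz⟩) steps_ok)
  · rw [hQP]
    intro h hh _
    have hN : h ∈ Subgroup.normalizer (pSub ι : Set G) := Subgroup.mem_normalizer_fintype hh
    have hcz : h * z = z * h := by
      have hcent : ∀ y ∈ pSub ι, h * z * h⁻¹ * y = y * (h * z * h⁻¹) := by
        intro y hy
        have hy' : h⁻¹ * y * h ∈ pSub ι := (Subgroup.mem_normalizer_iff''.1 hN y).1 hy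
        calc h * z * h⁻¹ * y = h * (z * (h⁻¹ * y * h)) * h⁻¹ := by group
          _ = h * ((h⁻¹ * y * h) * z) * h⁻¹ := by rw [commutes_z ι hι hg hz hy']
          _ = y * (h * z * h⁻¹) := by group
      rcases centre ι hι hg (hh z hzP) hcent hz with e | e
      · exact absurd (conj_eq_one_iff.1 e) hz1
      · exact mul_inv_eq_iff_eq_mul.1 e
    obtain ⟨i, hi, r, x, hre, hx, hhe⟩ := centralizer_cosets ι hι hg hcard hz hzP hcz
    refine Or.inr ⟨rSub ι, rSub_le ι hι hg, fun y hy v hv =>
      (Subgroup.mem_normalizer_iff.1 (pSub_le_normalizer ι hι hg hy) v).1 hv,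
      fun c hc => centric ι hι hg hcard hz hzP hzR hc, ?_⟩
    rw [hhe]
    exact mul_mem (rep_mem_twoGen ι hι hg hi hre) (pSub_le_twoGen ι hι hg hx)

end Group

end CfsgLib.Fusion68.HallJankoTwo
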