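import Cfsg.Agent.Lib.Fusion68.HallJankoTwoData
import Cfsg.Agent.Lib.Sporadic.HallJanko

/-!
The checks on the tables for the 2-fusion of the group of order 604800 on a hundred points.
-/

set_option autoImplicit false
set_option maxRecDepth 20000

namespace CfsgLib.Fusion68.HallJankoTwo

open CfsgLib.Sporadic CfsgLib.Sporadic.PermCode
open CfsgLib.Sporadic.HallJanko (one gens hone)

/-- Strictly increasing lists. -/
def incB : List ℕ → Bool
  | [] => true
  | [_] => true
  | a :: b :: r => Nat.blt a b && incB (b :: r)

theorem pairwise_of_incB : ∀ l : List ℕ, incB l = true → l.Pairwise (· < ·)
  | [], _ => List.Pairwise.nil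
  | [a], _ => List.pairwise_singleton _ a
  | a :: b :: r, h => by
    simp only [incB, Bool.and_eq_true, Nat.blt_eq] at h
    have hr := pairwise_of_incB (b :: r) h.2
    refine List.pairwise_cons.2 ⟨fun c hc => ?_, hr⟩
    rcases List.mem_cons.1 hc with rfl | hc'
    · exact h.1
    · exact h.1.trans ((List.pairwise_cons.1 hr).1 c hc')

theorem nodup_of_incB {l : List ℕ} (h : incB l = true) : l.Nodup :=
  (pairwise_of_incB l h).imp fun hab => hab.ne

theorem canon_mul (a b : ℕ) : canon (mul a b) = true := by
  rw [canon, beq_iff_eq]
  exact pack_congr 100 _ _ fun i hi =>
    img_pack (fun j => img a (img b j)) (fun _ => Nat.mod_lt _ (by norm_num)) hi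

/-- The steps of the closure. -/
noncomputable def stepsOk : List ℕ → List (List ℕ × List ℕ × ℕ) → Bool
  | K, [] => stepW.map (genWord mul one K) == pGens
  | K, (g, w, x) :: r => pList.contains x &&
      (mul (genWord mul one gens g) (genWord mul one K w) == mul x (genWord mul one gens g)) &&
      stepsOk (K ++ [x]) r

/-- The steps of the conjugacy class. -/
noncomputable def clsOk : List ℕ → List (ℕ × ℕ × ℕ) → Bool
  | _, [] => true
  | K, (p, j, y) :: r =>
      (mul y (gens.getD j one) == mul (gens.getD j one) (K.getD p zCode)) && clsOk (K ++ [y]) r

/-- A witness against commuting with the centric generators, or a proof of centrality. -/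
noncomputable def centOk (i k : ℕ) : Bool :=
  let r := reps.getD i one
  let x := pList.getD k one
  let v := (wit.getD i []).getD k 0
  bif Nat.blt v (rGens.length * 128) then
    let h := rGens.getD (v / 128) one
    let p := v % 128 % 100
    img r (img x (img h p)) != img h (img r (img x p))
  else mul r x == one || mul r x == zCode

theorem words_ok : (pWords.map (genWord mul one gens) == pGens &&
    pListW.map (genWord mul one pGens) == pList && rWords.map (genWord mul one pGens) == rGens &&
    twoWords.map (genWord mul one gens) == twoGens && repWords.map (genWord mul one twoGens) == reps &&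
    genWord mul one gens zW == zCode && genWord mul one rGens zInR == zCode) = true := by
  decide +kernel

theorem p_ok : (incB pList && pList.length == 128 && pList.contains one && pList.contains zCode &&
    pList.all canon && pGens.all (fun g => pList.all fun x => pList.contains (mul g x)) &&
    zCode != one && canon one && canon zCode) = true := by decide +kernel

theorem centre_ok : (pList.all fun x =>
    x == one || x == zCode || pGens.any fun g => mul x g != mul g x) = true := by decide +kernel

theorem steps_ok : stepsOk [zCode] steps = true := by decide +kernel

theorem two_ok : (pGens.all twoGens.contains &&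
    (twoGens.all fun t => genWord mul one [t] (List.replicate 8 0) == one) &&
    ((List.range twoGens.length).all fun i => (List.range rGens.length).all fun j =>
      mul (twoGens.getD i one) (rGens.getD j one) ==
        mul (genWord mul one rGens ((twoConj.getD i []).getD j [])) (twoGens.getD i one))) = true := by
  decide +kernel

theorem reps_ok : (reps.length == 15 && ((List.range 15).all fun i =>
    mul (reps.getD i one) zCode == mul zCode (reps.getD i one) &&
    mul (repInv.getD i one) (reps.getD i one) == one &&
    (List.range 15).all fun j => i == j ||
      !(pList.contains (mul (repInv.getD i one) (reps.getD j one))))) = true := by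
  decide +kernel

theorem z_ok : (pGens.all fun g => mul g zCode == mul zCode g) = true := by decide +kernel

theorem cls_ok : (clsOk [zCode] cls.tail && clsSorted.length == 315 && incB clsSorted &&
    (let cs := zCode :: cls.tail.map fun q => q.2.2
     clsSorted.all fun c => cs.contains c && canon c)) = true := by
  decide +kernel

theorem cent_ok : ((List.range 15).all fun i => (List.range 128).all fun k => centOk i k) = true := by
  decide +kernel

end CfsgLib.Fusion68.HallJankoTwo
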