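import Cfsg.Agent.Lib.Fusion68.McLInvAct
import Cfsg.Agent.Lib.KnownSimple.GLFourTwo

/-!
One class of involutions in the pair stabiliser, and the centraliser of one of them is a non-split double
cover of the alternating group on eight letters.
-/

set_option autoImplicit false
set_option maxRecDepth 20000

namespace CfsgLib.Fusion68.McLInv

open Cfsg CfsgLib.Golay CfsgLib.Golay.LeechOrbit CfsgLib.FusionMathieu CfsgLib.MonsterType
open CfsgLib.LeechEight CfsgLib.Sporadic.Conway CfsgLib.Sporadic.ConwayPairs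

theorem zσ_ne_one : zσ ≠ 1 := fun e => by
  have h := z_ok
  simp only [Bool.and_eq_true, Bool.not_eq_true', beq_eq_false_iff_ne] at h
  refine h.2 ?_
  rw [← toList_zσ, e]
  exact toList_one

theorem zσ_sq : zσ * zσ = 1 := by
  have h := z_ok
  simp only [Bool.and_eq_true, beq_iff_eq] at h
  refine Subtype.ext (toList_injective ?_)
  rw [Subgroup.coe_mul, toList_mul, toList_zσ, h.1.2]
  exact toList_one.symm

theorem co0_ext {γ δ : Co0} (h : ∀ j : Fin 24, γ • latE (pt j) = δ • latE (pt j)) : γ = δ := by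
  refine Subtype.ext (Equiv.ext fun v => Subtype.ext (funext fun i => ?_))
  have h1 := eight_addHom γ v i
  have h2 := eight_addHom δ v i
  have e : ∀ j, addHom γ (latE j) = addHom δ (latE j) := fun j => by rw [← pt_idx j]; exact h _
  simp only [e] at h1
  change ((addHom γ v : leechLattice) : GolayPt → ℤ) i = ((addHom δ v : leechLattice) : GolayPt → ℤ) i
  omega

variable {G : Type*} [Group G] [Finite G] (e : G ≃* pairStab Spor.leechU)

/-- The central involution of the Sylow group. -/
noncomputable def tEl : G := McLTwo.inc e zσ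

theorem tEl_ne_one : tEl e ≠ 1 := fun h =>
  zσ_ne_one (McLTwo.inc_injective e (h.trans (map_one _).symm))

theorem tEl_sq : tEl e * tEl e = 1 := by rw [tEl, ← map_mul, zσ_sq, map_one]

theorem card_eq (e : G ≃* pairStab Spor.leechU) : Nat.card G = 898128000 := by
  have h := Sporadic.ConwayPairOrders.card_pair LeechOrbit.spec552
  rw [show LeechOrbit.root552 = -Spor.leechU from rfl, Sporadic.ConwayPairOrders.pairStab_neg,
    ← Nat.card_congr e.toEquiv] at h
  omega

theorem isConj_tEl {x : G} (hx : orderOf x = 2) : IsConj x (tEl e) := by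
  have hok := m22_check
  simp only [mathieuOk, Bool.and_eq_true, List.all_eq_true] at hok
  obtain ⟨P₀, hP₀, hcard, hclos⟩ := exists_chain m22Gens hok.1.1
  have hlen : m22Gens.length = 7 := by decide
  have hP₀G : P₀ ≤ McLTwo.mGrp := by
    rw [hclos, Subgroup.closure_le]
    intro σ hσ
    exact (McLTwo.mem_mGrp σ).mpr (hok.1.2 _ hσ)
  let P : Subgroup G := (P₀.subgroupOf McLTwo.mGrp).map (McLTwo.inc e)
  have hPcard : Nat.card P = 2 ^ 7 := by
    rw [Subgroup.card_map_of_injective (McLTwo.inc_injective e), ← hlen, ← hcard]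
    exact Nat.card_congr (Subgroup.subgroupOfEquivOfLe hP₀G).toEquiv
  haveI : Fact (Nat.Prime 2) := ⟨Nat.prime_two⟩
  have hfac : (Nat.card G).factorization 2 = 7 := by
    rw [card_eq e, show 898128000 = 2 ^ 7 * 7016625 by norm_num,
      Nat.factorization_mul (by norm_num) (by norm_num), Finsupp.add_apply,
      Nat.Prime.factorization_pow Nat.prime_two, Finsupp.single_eq_same,
      Nat.factorization_eq_zero_of_not_dvd (by norm_num : ¬ 2 ∣ 7016625)]
  let Q : Sylow 2 G := Sylow.ofCard P (by rw [hPcard, hfac])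
  have hp : IsPGroup 2 (Subgroup.zpowers x) := IsPGroup.of_card (n := 1) (by rw [Nat.card_zpowers, hx]; rfl)
  obtain ⟨R, hR⟩ := hp.exists_le_sylow
  obtain ⟨g, rfl⟩ := MulAction.exists_smul_eq G Q R
  have hxg : g⁻¹ * x * g ∈ P := by
    have h := hR (Subgroup.mem_zpowers x)
    rw [← SetLike.mem_coe, Sylow.coe_subgroup_smul, Subgroup.coe_pointwise_smul,
      Set.mem_smul_set_iff_inv_smul_mem, ← map_inv, MulAut.smul_def, MulAut.conj_apply, inv_inv] at h
    exact h
  obtain ⟨τ, hτ, hτe⟩ := hxg
  have hx1 : x ≠ 1 := fun h => by rw [h, orderOf_one] at hx; norm_num at hx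
  have hxx : x * x = 1 := by rw [← pow_two, ← hx, pow_orderOf_eq_one]
  have hτ1 : τ ≠ 1 := fun h => hx1 (by
    rw [h, map_one] at hτe
    have := congrArg (fun u => g * u * g⁻¹) hτe.symm
    simpa [mul_assoc] using this)
  have hτ2 : τ * τ = 1 := McLTwo.inc_injective e (by
    rw [map_mul, hτe, map_one]
    calc g⁻¹ * x * g * (g⁻¹ * x * g) = g⁻¹ * (x * x) * g := by group
      _ = 1 := by rw [hxx]; group)
  have hl := List.all_eq_true.1 conjs_ok _ ((hP₀.1 τ.1).1 hτ)
  have h1 : (toList τ.1 == idL) = false := beq_eq_false_iff_ne.2 fun h =>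
    hτ1 (Subtype.ext (toList_injective (h.trans toList_one.symm)))
  have h2 : (comp (toList τ.1) (toList τ.1) == idL) = true := beq_iff_eq.2 (by
    rw [← toList_mul, ← Subgroup.coe_mul, hτ2]; exact toList_one)
  rw [h1, h2, Bool.not_true, Bool.false_or, Bool.false_or, List.any_eq_true] at hl
  obtain ⟨c, hc, hce⟩ := hl
  have hc' := List.all_eq_true.1 conjs_valid c hc
  simp only [Bool.and_eq_true, beq_iff_eq] at hc' hce
  obtain ⟨σ, hσ⟩ := exists_perm_of_valid hc'.1.1
  let γ : McLTwo.mGrp := ⟨σ, (McLTwo.mem_mGrp σ).2 (hσ ▸ hc'.1.2)⟩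
  have hγ : γ * τ = zσ * γ := Subtype.ext (toList_injective (by
    rw [Subgroup.coe_mul, Subgroup.coe_mul, toList_mul, toList_mul, toList_zσ, hσ, ← hce]
    exact hc'.2))
  refine isConj_iff.2 ⟨McLTwo.inc e γ * g⁻¹, ?_⟩
  have hγ' := congrArg (McLTwo.inc e) hγ
  rw [map_mul, map_mul, hτe] at hγ'
  rw [tEl, mul_inv_rev, inv_inv]
  calc McLTwo.inc e γ * g⁻¹ * x * (g * (McLTwo.inc e γ)⁻¹)
      = McLTwo.inc e γ * (g⁻¹ * x * g) * (McLTwo.inc e γ)⁻¹ := by group
    _ = _ := by rw [hγ', mul_inv_cancel_right]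

/-- The centraliser. -/
abbrev cT : Subgroup G := Subgroup.centralizer {tEl e}

/-- The automorphism of the lattice of a group element. -/
noncomputable def co (g : G) : Co0 := ((e g : pairStab Spor.leechU) : Co0)

theorem co_mul (g h : G) : co e (g * h) = co e g * co e h := by simp [co]

theorem co_one : co e (1 : G) = 1 := by simp [co]

theorem co_injective : Function.Injective (co e) := fun _ _ h => e.injective (Subtype.ext h)

theorem co_tEl : co e (tEl e) = permW zM := McLTwo.coe_inc e zσ

theorem smul_V (g : G) : co e g • Spor.leechV = Spor.leechV := (e g).2.1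

theorem smul_U (g : G) : co e g • Spor.leechU = Spor.leechU := (e g).2.2

theorem exists_image (g : cT e) (i : Fin 35) : ∃ i', co e g.1 • fL i = fL i' := by
  have h1 : co e g.1 • fL i ∈ consSet cs275 := by
    refine smul_mem_consSet (fun c hc => ?_) (fL_mem i)
    simp only [cs275, List.mem_cons, List.not_mem_nil, or_false] at hc
    rcases hc with rfl | rfl
    · exact smul_V e g.1
    · show _ • (-Spor.leechU) = -Spor.leechU
      rw [smul_neg', smul_U]
  have h2 : permW zM • co e g.1 • fL i = co e g.1 • fL i := by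
    have hc := congrArg (co e) (Subgroup.mem_centralizer_singleton_iff.1 g.2)
    rw [co_mul, co_mul, co_tEl] at hc
    rw [← mul_smul, ← hc, mul_smul, smul_fL_of_zM]
  obtain ⟨i', hi'⟩ := exists_fL h1 h2
  exact ⟨i', hi'.symm⟩

/-- The map on fixed vectors. -/
noncomputable def rho (g : cT e) (i : Fin 35) : Fin 35 := (exists_image e g i).choose

theorem moves (g : cT e) : Moves (co e g.1) (rho e g) :=
  ⟨smul_U e g.1, fun i => (exists_image e g i).choose_spec⟩

theorem rho_mul (g h : cT e) : rho e (g * h) = rho e g ∘ rho e h := funext fun i => fL_injective (by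
  rw [← (moves e (g * h)).eq, Function.comp_apply, ← (moves e g).eq, ← (moves e h).eq, Subgroup.coe_mul,
    co_mul, mul_smul])

theorem rho_one : rho e 1 = id := funext fun i => fL_injective (by
  rw [← (moves e 1).eq, Subgroup.coe_one, co_one, one_smul, id_eq])

theorem pi_mul (g h : cT e) (j : Fin 15) :
    (moves e (g * h)).pi j = (moves e g).pi ((moves e h).pi j) := (moves e (g * h)).pi_eq (by
  rw [rho_mul, ← Finset.image_image, (moves e h).pi_spec, (moves e g).pi_spec])

theorem lin_mul (g h : cT e) : (moves e (g * h)).lin = (moves e g).lin ∘ₗ (moves e h).lin := by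
  refine LinearMap.ext fun v => ?_
  rw [LinearMap.comp_apply]
  rcases eq_or_ne v 0 with rfl | hv
  · simp
  obtain ⟨j, rfl⟩ := vecOf_surjective v hv
  simp only [Moves.lin_apply, Moves.vmap_vecOf, pi_mul]

theorem lin_one : (moves e 1).lin = LinearMap.id := by
  refine LinearMap.ext fun v => ?_
  rcases eq_or_ne v 0 with rfl | hv
  · simp
  obtain ⟨j, rfl⟩ := vecOf_surjective v hv
  rw [Moves.lin_apply, Moves.vmap_vecOf, LinearMap.id_apply,
    (moves e 1).pi_eq (k := j) (by rw [rho_one, Finset.image_id])]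

/-- The linear representation of the centraliser. -/
noncomputable def matHom : cT e →* Matrix (Fin 4) (Fin 4) (ZMod 2) where
  toFun g := LinearMap.toMatrix' (moves e g).lin
  map_one' := by rw [lin_one, LinearMap.toMatrix'_id]
  map_mul' g h := by rw [lin_mul, LinearMap.toMatrix'_comp]

/-- The representation into `GL_4(2)`. -/
noncomputable def phi : cT e →* GL (Fin 4) (ZMod 2) := (matHom e).toHomUnits

theorem coe_phi (g : cT e) : (phi e g).val = LinearMap.toMatrix' (moves e g).lin :=
  MonoidHom.coe_toHomUnits (matHom e) g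

theorem mem_ker {g : cT e} (hg : g ∈ (phi e).ker) : g.1 = 1 ∨ g.1 = tEl e := by
  have hm := congrArg Units.val (MonoidHom.mem_ker.1 hg)
  rw [coe_phi, Units.val_one, ← LinearMap.toMatrix'_id] at hm
  have hlin := LinearMap.toMatrix'.injective hm
  have hpi : ∀ j, (moves e g).pi j = j := fun j => vecOf_injective _ _ (by
    rw [← Moves.vmap_vecOf, ← Moves.lin_apply, hlin, LinearMap.id_apply])
  have hrho : ∀ i, rho e g i = i := fun i => line_ok i _ fun j hj => by
    have := Finset.mem_image_of_mem (rho e g) hj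
    rwa [(moves e g).pi_spec, hpi] at this
  set γ := co e g.1 with hγ
  have hfix : ∀ i, γ • fL i = fL i := fun i => by rw [(moves e g).eq, hrho]
  have h3 : (3 : ℤ) • (γ • latE none) = (3 : ℤ) • latE none := by
    show (3 : ℤ) • addHom γ (latE none) = _
    rw [← map_zsmul, latE_none_span]
    simp only [map_add, map_zsmul, map_sum]
    have hU : addHom γ Spor.leechU = Spor.leechU := smul_U e g.1
    have hV : addHom γ Spor.leechV = Spor.leechV := smul_V e g.1
    rw [hU, hV]
    exact congrArg _ (Finset.sum_congr rfl fun i _ => congrArg _ (hfix i))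
  have hE : γ • latE none = latE none := by
    refine Subtype.ext (funext fun p => ?_)
    have := congrFun (congrArg Subtype.val h3) p
    simp only [AddSubgroup.coe_zsmul, Pi.smul_apply, smul_eq_mul] at this
    omega
  obtain ⟨σ, hσ, hσ0⟩ := eq_permW hE (show (-1 : ℤ) ≠ 0 by norm_num) vecV_rest (smul_V e g.1)
  set l := toList (σ : Equiv.Perm GolayPt) with hl
  have hlt : ∀ p : Fin 24, l.getD p.val 0 < 24 := fun p => by
    rw [hl, getD_toList]; exact Fin.isLt _
  have hcol : ∀ p : Fin 24, l.getD p.val 0 = p.val ∨ l.getD p.val 0 = m22Z.getD p.val 0 := by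
    intro p
    have hx : ∀ x : leechLattice, γ • x = x →
        (toL (x : GolayPt → ℤ)).getD p.val 0 =
          (toL (x : GolayPt → ℤ)).getD (idx ((σ : Equiv.Perm GolayPt) (pt p))).val 0 := by
      intro x hx
      have h := congrFun (congrArg Subtype.val hx) ((σ : Equiv.Perm GolayPt) (pt p))
      rw [hσ, permW_apply, Equiv.symm_apply_apply] at h
      rw [getD_toL, getD_toL, pt_idx]
      exact h
    rw [hl, getD_toList]
    exact col_ok p _ (fun i => by rw [← toL_fL]; exact hx _ (hfix i)) (hx _ (smul_V e g.1))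
      (hx _ (smul_U e g.1))
  have hσ1 : (σ : Equiv.Perm GolayPt) (some 0) = some 0 := by
    have hz0 : m22Z.getD (0 : Fin 24).val 0 = (0 : Fin 24).val := by decide
    have h := hcol 0
    rw [hz0, or_self, hl, getD_toList] at h
    have hp : pt (0 : Fin 24) = some 0 := by decide +kernel
    rw [hp] at h
    rw [← pt_idx ((σ : Equiv.Perm GolayPt) (some 0)), Fin.ext h, hp]
  have hσm : (σ : Equiv.Perm GolayPt) ∈ McLTwo.mGrp :=
    mem_fixPts.2 ⟨σ.2, by simp [hσ0, hσ1]⟩
  have hinj : ∀ p q : Fin 24, l.getD p.val 0 = l.getD q.val 0 → p = q := fun p q h => by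
    rw [hl, getD_toList, getD_toList] at h
    exact ptEquiv.injective ((σ : Equiv.Perm GolayPt).injective (idx_injective (Fin.ext h)))
  set c : Fin 8 → Bool := fun k => !(l.getD (reps.getD k.val 0) 0 == reps.getD k.val 0) with hc
  have hb : buildL c = l := by
    refine List.ext_getElem (by simp [buildL, hl, toList_length]) fun p h1 h2 => ?_
    have hp : p < 24 := by simpa [buildL] using h1
    rw [← List.getD_eq_getElem l 0 h2]
    simp only [buildL, List.getElem_ofFn]
    rcases eq_or_ne (m22Z.getD p 0) p with hz | hz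
    · rw [hz, Bool.cond_self]
      exact ((hcol ⟨p, hp⟩).elim id fun h => h.trans hz).symm
    have hany : ∀ k : Fin 8, (reps.getD k.val 0 = p ∨ m22Z.getD (reps.getD k.val 0) 0 = p) →
        (∀ k' : Fin 8, (reps.getD k'.val 0 = p ∨ m22Z.getD (reps.getD k'.val 0) 0 = p) → k' = k) →
        ((List.finRange 8).any fun k => c k &&
          (reps.getD k.val 0 == p || m22Z.getD (reps.getD k.val 0) 0 == p)) = c k := by
      intro k hk huniq
      rw [Bool.eq_iff_iff, List.any_eq_true]
      constructor
      · rintro ⟨k', -, hk'⟩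
        simp only [Bool.and_eq_true, Bool.or_eq_true, beq_iff_eq] at hk'
        rw [← huniq k' hk'.2]; exact hk'.1
      · exact fun h => ⟨k, List.mem_finRange k, by simp only [h, Bool.true_and, Bool.or_eq_true, beq_iff_eq]; exact hk⟩
    obtain ⟨k, hk⟩ := reps_ok ⟨p, hp⟩ hz
    rcases hk with ⟨hk, huniq⟩ | ⟨hk, hne, hback, huniq⟩
    · rw [hany k (Or.inl hk) huniq, hc]
      dsimp only at hk ⊢
      rw [hk]
      rcases hcol ⟨p, hp⟩ with h | h <;> simp only at h
      · rw [h, beq_self_eq_true, Bool.not_true, cond_false]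
      · rw [h, beq_eq_false_iff_ne.2 hz, Bool.not_false, cond_true]
    · rw [hany k (Or.inr hk) huniq, hc]
      dsimp only at hk hne hback ⊢
      have ha : reps.getD k.val 0 < 24 := (reps_moved k).1
      rcases hcol ⟨p, hp⟩ with h | h <;> rcases hcol ⟨_, ha⟩ with h' | h' <;> simp only at h h'
      · rw [h', beq_self_eq_true, Bool.not_true, cond_false, h]
      · exact absurd (hinj ⟨p, hp⟩ ⟨_, ha⟩ (by simp only [h, h', hk])) (fun e => hne (congrArg Fin.val e).symm)
      · exact absurd (hinj ⟨p, hp⟩ ⟨_, ha⟩ (by simp only [h, h', hback])) (fun e => hne (congrArg Fin.val e).symm)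
      · rw [h', hk, beq_eq_false_iff_ne.2 (Ne.symm hne), Bool.not_false, cond_true, h]
  rcases build_ok c (hb ▸ (McLTwo.mem_mGrp _).1 hσm) with h | h <;> rw [hb] at h
  · refine Or.inl (co_injective e ?_)
    rw [co_one, ← hγ, hσ, show σ = 1 from Subtype.ext (toList_injective (h.trans toList_one.symm)),
      ← permHom_apply, map_one]
  · refine Or.inr (co_injective e ?_)
    rw [co_tEl, ← hγ, hσ]
    exact congrArg permW (Subtype.ext (toList_injective (h.trans toList_zσ.symm)))

theorem word_smul_fix {w : List Letter} (hw : w ∈ [wA, wB]) :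
    wordW w • Spor.leechV = Spor.leechV ∧ wordW w • Spor.leechU = Spor.leechU := by
  have h := mem_consStab_of_fixB (cs := [(Spor.leechV, 0), (Spor.leechU, 0)]) words_fix w hw
  exact ⟨h (Spor.leechV, 0) (by simp), h (Spor.leechU, 0) (by simp)⟩

theorem exists_elem {w : List Letter} (hw : w ∈ [wA, wB]) :
    ∃ g : cT e, co e g.1 = wordW w := by
  refine ⟨⟨e.symm ⟨wordW w, word_smul_fix hw⟩, Subgroup.mem_centralizer_singleton_iff.2 ?_⟩, by simp [co]⟩
  refine co_injective e ?_
  rw [co_mul, co_mul, co_tEl]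
  have he : co e (e.symm ⟨wordW w, word_smul_fix hw⟩) = wordW w := by simp [co]
  rw [he]
  refine co0_ext fun j => Subtype.ext (toL_injective ?_)
  have h := List.all_eq_true.1 (List.all_eq_true.1 words_comm w hw) j (List.mem_finRange j)
  rw [beq_iff_eq, appE_eq, appE_eq] at h
  rw [mul_smul, mul_smul, toL_wordW, toL_zM, toL_zM, toL_wordW, toL_latE]
  exact h

theorem pi_word {w : List Letter} {im : List (Fin 15)} (himg : imgOk w im = true) {g : cT e}
    (hg : co e g.1 = wordW w) (j : Fin 15) : (moves e g).pi j = im.getD j.val 0 := by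
  refine (moves e g).pi_eq (Finset.eq_of_subset_of_card_le (fun a ha => ?_) ?_)
  · obtain ⟨i, hi, rfl⟩ := Finset.mem_image.1 ha
    rw [imgOk, List.all_eq_true] at himg
    have h := List.all_eq_true.1 (himg j (List.mem_finRange j)) i (List.mem_toFinset.1 hi)
    obtain ⟨i', -, hi'⟩ := List.any_eq_true.1 h
    simp only [Bool.and_eq_true, decide_eq_true_eq, beq_iff_eq, appE_eq] at hi'
    have : rho e g i = i' := fL_injective (Subtype.ext (toL_injective (by
      rw [← (moves e g).eq, hg, toL_wordW, toL_fL, toL_fL, hi'.2])))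
    rw [this]; exact hi'.1
  · rw [Finset.card_image_of_injective _ (moves e g).injective, card_ptS, card_ptS]

theorem phi_word {w : List Letter} {im : List (Fin 15)} (himg : imgOk w im = true) {g : cT e}
    (hg : co e g.1 = wordW w) : (phi e g).val = matOf im := by
  rw [coe_phi]
  ext a b
  obtain ⟨j, hj, hjb⟩ := basis_ok b
  rw [LinearMap.toMatrix'_apply, matOf, Matrix.of_apply]
  have hb : (fun j' => if j' = b then (1 : ZMod 2) else 0) = vecOf j := by
    rw [hjb]; funext k; rw [Pi.single_apply]
  first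
    | rw [hb, Moves.lin_apply, Moves.vmap_vecOf, pi_word e himg hg, hj]
    | rw [← hjb, Moves.lin_apply, Moves.vmap_vecOf, pi_word e himg hg, hj]

theorem phi_surjective : Function.Surjective (phi e) := by
  obtain ⟨gA, hA⟩ := exists_elem e (w := wA) (by simp)
  obtain ⟨gB, hB⟩ := exists_elem e (w := wB) (by simp)
  have htv : ∀ a b : Fin 4, a ≠ b →
      ∃ g : cT e, (phi e g).val = Matrix.transvection a b (1 : ZMod 2) := by
    intro a b hab
    obtain ⟨⟨a', b', ws⟩, -, rfl, rfl, hprod⟩ := tv_ok a b hab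
    refine ⟨(ws.map fun k => bif k then gB else gA).prod, ?_⟩
    rw [← hprod]
    show (phi e _).val = (ws.map _).prod
    clear hprod hab
    induction ws with
    | nil => simp
    | cons k ws ih =>
      simp only [List.map_cons, List.prod_cons, map_mul, Units.val_mul, ih]
      congr 1
      cases k
      · exact phi_word e imgs_ok.1 hA
      · exact phi_word e imgs_ok.2 hB
  have htop := Cfsg.Agent.Classical.sl_subgroup_eq_top_of_transvection_mem
    ((phi e).range.comap Matrix.SpecialLinearGroup.toGL) (fun i j h c => by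
      rcases (show ∀ c : ZMod 2, c = 0 ∨ c = 1 by decide) c with rfl | rfl
      · refine ⟨1, Units.ext ?_⟩
        rw [map_one, Units.val_one, Matrix.SpecialLinearGroup.coe_GL_coe_matrix,
          Matrix.SpecialLinearGroup.transvection_coe]
        simp
      · obtain ⟨g, hg⟩ := htv i j h
        refine ⟨g, Units.ext ?_⟩
        rw [hg, Matrix.SpecialLinearGroup.coe_GL_coe_matrix, Matrix.SpecialLinearGroup.transvection_coe]
        rfl)
  intro u
  let su : Matrix.SpecialLinearGroup (Fin 4) (ZMod 2) := ⟨u.val, KnownSimple.GLFourTwo.det_GL_two u⟩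
  have hs : su ∈ (phi e).range.comap Matrix.SpecialLinearGroup.toGL := htop ▸ Subgroup.mem_top _
  obtain ⟨g, hg⟩ := hs
  exact ⟨g, hg.trans (Units.ext (Matrix.SpecialLinearGroup.coe_GL_coe_matrix _))⟩

theorem tEl_mem : tEl e ∈ cT e := Subgroup.mem_centralizer_singleton_iff.2 rfl

theorem center_eq_ker : Subgroup.center (cT e) = (phi e).ker := by
  have hGL : Subgroup.center (GL (Fin 4) (ZMod 2)) = ⊥ := by
    haveI := KnownSimple.GLFourTwo.isSimple_GL
    refine (IsSimpleGroup.eq_bot_or_eq_top_of_normal _ inferInstance).resolve_right fun h => noncomm ?_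
    obtain ⟨gA, hA⟩ := exists_elem e (w := wA) (by simp)
    obtain ⟨gB, hB⟩ := exists_elem e (w := wB) (by simp)
    rw [← phi_word e imgs_ok.1 hA, ← phi_word e imgs_ok.2 hB, ← Units.val_mul, ← Units.val_mul]
    exact congrArg Units.val (Subgroup.mem_center_iff.1 (h ▸ Subgroup.mem_top (phi e gB)) _)
  refine le_antisymm (fun g hg => ?_) (fun g hg => Subgroup.mem_center_iff.2 fun x => ?_)
  · have h : phi e g ∈ Subgroup.center (GL (Fin 4) (ZMod 2)) := Subgroup.mem_center_iff.2 fun u => by
      obtain ⟨x, rfl⟩ := phi_surjective e u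
      rw [← map_mul, ← map_mul, Subgroup.mem_center_iff.1 hg x]
    rw [hGL, Subgroup.mem_bot] at h
    exact h
  · apply Subtype.ext
    rw [Subgroup.coe_mul, Subgroup.coe_mul]
    rcases mem_ker e hg with h | h <;> rw [h]
    · simp
    · exact Subgroup.mem_centralizer_singleton_iff.1 x.2

theorem tEl_mem_center : (⟨tEl e, tEl_mem e⟩ : cT e) ∈ Subgroup.center (cT e) :=
  Subgroup.mem_center_iff.2 fun x => Subtype.ext (Subgroup.mem_centralizer_singleton_iff.1 x.2)

theorem card_center : Nat.card (Subgroup.center (cT e)) = 2 := by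
  have h : Subgroup.center (cT e) = Subgroup.zpowers (⟨tEl e, tEl_mem e⟩ : cT e) := by
    refine le_antisymm (fun g hg => ?_) ((Subgroup.zpowers_le).2 (tEl_mem_center e))
    rw [center_eq_ker] at hg
    rcases mem_ker e hg with h | h
    · rw [show g = 1 from Subtype.ext h]; exact one_mem _
    · rw [show g = ⟨tEl e, tEl_mem e⟩ from Subtype.ext h]; exact Subgroup.mem_zpowers _
  rw [h, Nat.card_zpowers]
  exact orderOf_eq_prime (by rw [pow_two]; exact Subtype.ext (tEl_sq e))
    (fun h => tEl_ne_one e (congrArg Subtype.val h))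

theorem not_isComplement (L : Subgroup (cT e)) : ¬ (Subgroup.center (cT e)).IsComplement' L := by
  intro hL
  have h := rootZ_ok
  simp only [Bool.and_eq_true, beq_iff_eq] at h
  obtain ⟨s, hs⟩ := exists_perm_of_valid h.1.1
  let sm : McLTwo.mGrp := ⟨s, (McLTwo.mem_mGrp s).2 (hs ▸ h.1.2)⟩
  have hss : sm * sm = zσ := Subtype.ext (toList_injective (by
    rw [Subgroup.coe_mul, toList_mul, toList_zσ, hs]; exact h.2))
  have hx : McLTwo.inc e sm ∈ cT e := Subgroup.mem_centralizer_singleton_iff.2 (by
    rw [tEl, ← hss, map_mul, mul_assoc])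
  obtain ⟨⟨z, l⟩, hzl, -⟩ := hL.existsUnique (⟨_, hx⟩ : cT e)
  have hzz : (z : cT e) * z = 1 := by
    have h' : z ^ 2 = 1 := (card_center e) ▸ (pow_card_eq_one' (x := z))
    rw [pow_two] at h'
    exact congrArg Subtype.val h'
  have hsq : (⟨tEl e, tEl_mem e⟩ : cT e) = (l : cT e) * l := by
    have e1 : (⟨_, hx⟩ : cT e) * ⟨_, hx⟩ = ⟨tEl e, tEl_mem e⟩ :=
      Subtype.ext (by rw [Subgroup.coe_mul, ← map_mul, hss]; rfl)
    simp only at hzl
    rw [← e1, ← hzl]
    calc (z : cT e) * l * (z * l) = z * (l * z) * l := by group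
      _ = z * (z * l) * l := by rw [Subgroup.mem_center_iff.1 z.2 l]
      _ = (l : cT e) * l := by rw [← mul_assoc (z : cT e) z, hzz, one_mul]
  have hbot : (⟨tEl e, tEl_mem e⟩ : cT e) ∈ Subgroup.center (cT e) ⊓ L :=
    ⟨tEl_mem_center e, hsq ▸ L.mul_mem l.2 l.2⟩
  rw [hL.disjoint.eq_bot, Subgroup.mem_bot] at hbot
  exact tEl_ne_one e (congrArg Subtype.val hbot)

/-- One class of involutions, with the centraliser a non-split double cover. -/
theorem main (e : G ≃* pairStab Spor.leechU) :
    (∀ x y : G, orderOf x = 2 → orderOf y = 2 → IsConj x y) ∧ ∃ t : G, orderOf t = 2 ∧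
      IsNonsplitDoubleCover ↥(Subgroup.centralizer ({t} : Set G)) ↥(alternatingGroup (Fin 8)) := by
  refine ⟨fun x y hx hy => (isConj_tEl e hx).trans (isConj_tEl e hy).symm, tEl e,
    orderOf_eq_prime (by rw [pow_two]; exact tEl_sq e) (tEl_ne_one e), card_center e, ⟨?_⟩,
    not_isComplement e⟩
  exact (QuotientGroup.quotientMulEquivOfEq (center_eq_ker e)).trans
    ((QuotientGroup.quotientKerEquivOfSurjective (phi e) (phi_surjective e)).trans
      KnownSimple.GLFourTwo.glFourTwoEquivAlt)

end CfsgLib.Fusion68.McLInv
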