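import Cfsg.Agent.Lib.FusionMathieu.M22
import Cfsg.Agent.Lib.Sporadic.ConwayPairOrders
import Cfsg.Agent.Lib.Golay.LeechOrbit.CertA

/-!
The 2-fusion system of the stabiliser of the pair `(-5, -1^23)`, `(4, 4, 0^22)` is simple.

A Sylow subgroup lies in the permutations fixing two points.  An element normalising it sends `8 e` at the
extra point to a vector constant on the five orbits with the same norm and the same inner products with the
pair, which is `8 e` again; so the element is a permutation, and the test for the Mathieu group applies.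
-/

set_option autoImplicit false
set_option maxRecDepth 20000

namespace CfsgLib.Fusion68.McLTwo

open Cfsg CfsgLib.Golay CfsgLib.FusionMathieu CfsgLib.MonsterType CfsgLib.LeechEight
open CfsgLib.Sporadic.Conway CfsgLib.Sporadic.ConwayPairs

/-- The permutations fixing the two points. -/
abbrev mGrp : Subgroup (Equiv.Perm GolayPt) := fixPts [none, some 0]

theorem mem_mGrp (σ : Equiv.Perm GolayPt) : σ ∈ mGrp ↔ inG22 (toList σ) = true := by
  rw [← mem_M22_iff, M22_eq]
  exact Iff.rfl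

/-- The first point of each orbit. -/
def rep (i : ℕ) : ℕ :=
  if i = 0 then 0 else if i = 23 then 23 else if i = 2 ∨ i = 20 then 2
  else if i = 5 ∨ i = 8 ∨ i = 13 ∨ i = 19 then 5 else 1

theorem orbits_ok : ((List.range 24).all fun i =>
    (elts m22Gens).any fun l => Nat.beq (l.getD (rep i) 0) i) = true := by
  decide +kernel

theorem unique_sol : ∀ a ∈ List.range 17, ∀ c ∈ List.range 11, ∀ d ∈ List.range 9, ∀ e ∈ List.range 5,
    (((a : ℤ) - 8) ^ 2 + (8 - ((a : ℤ) - 8)) ^ 2 + 2 * ((c : ℤ) - 5) ^ 2 + 4 * ((d : ℤ) - 4) ^ 2 +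
      16 * ((e : ℤ) - 2) ^ 2 = 64 ∧
      2 * ((a : ℤ) - 8) + ((c : ℤ) - 5) + 2 * ((d : ℤ) - 4) + 8 * ((e : ℤ) - 2) = 16) →
    a = 16 ∧ c = 5 ∧ d = 4 ∧ e = 2 := by
  decide +kernel

theorem eq_of_eqns {a b c d e : ℤ} (hn : a ^ 2 + b ^ 2 + 2 * c ^ 2 + 4 * d ^ 2 + 16 * e ^ 2 = 64)
    (hu : 4 * a + 4 * b = 32) (hv : -5 * a - b - 2 * c - 4 * d - 16 * e = -40) :
    a = 8 ∧ b = 0 ∧ c = 0 ∧ d = 0 ∧ e = 0 := by
  obtain rfl : b = 8 - a := by omega
  have ha := sq_nonneg a
  have hb := sq_nonneg (8 - a)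
  have hc := sq_nonneg c
  have hd := sq_nonneg d
  have he := sq_nonneg e
  obtain ⟨a1, a2⟩ := abs_le.1 (abs_le_of_sq_le_sq (show a ^ 2 ≤ 8 ^ 2 by omega) (by norm_num))
  obtain ⟨c1, c2⟩ := abs_le.1 (abs_le_of_sq_le_sq (show c ^ 2 ≤ 6 ^ 2 by omega) (by norm_num))
  obtain ⟨d1, d2⟩ := abs_le.1 (abs_le_of_sq_le_sq (show d ^ 2 ≤ 4 ^ 2 by omega) (by norm_num))
  obtain ⟨e1, e2⟩ := abs_le.1 (abs_le_of_sq_le_sq (show e ^ 2 ≤ 2 ^ 2 by omega) (by norm_num))
  have hc' : c ≠ 6 ∧ c ≠ -6 := by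
    constructor <;> rintro rfl <;> norm_num at hn ⊢ <;> omega
  obtain ⟨a', rfl⟩ : ∃ n : ℕ, a = (n : ℤ) - 8 := ⟨(a + 8).toNat, by omega⟩
  obtain ⟨c', rfl⟩ : ∃ n : ℕ, c = (n : ℤ) - 5 := ⟨(c + 5).toNat, by omega⟩
  obtain ⟨d', rfl⟩ : ∃ n : ℕ, d = (n : ℤ) - 4 := ⟨(d + 4).toNat, by omega⟩
  obtain ⟨e', rfl⟩ : ∃ n : ℕ, e = (n : ℤ) - 2 := ⟨(e + 2).toNat, by omega⟩
  have := unique_sol a' (List.mem_range.2 (by omega)) c' (List.mem_range.2 (by omega)) d'
    (List.mem_range.2 (by omega)) e' (List.mem_range.2 (by omega)) ⟨hn, by omega⟩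
  omega

theorem idx_none : idx (none : GolayPt) = 23 := rfl

/-- A vector constant on the orbits with the invariants of `8 e` at the extra point is that vector. -/
theorem eq_latE {w : leechLattice}
    (hconst : ∀ i : Fin 24, (w : GolayPt → ℤ) (pt i) = (w : GolayPt → ℤ) (pt ⟨rep i % 24, Nat.mod_lt _ (by norm_num)⟩))
    (hn : sqNorm (w : GolayPt → ℤ) = 64)
    (hu : dotInt (Spor.leechU : GolayPt → ℤ) (w : GolayPt → ℤ) = 32)
    (hv : dotInt (Spor.leechV : GolayPt → ℤ) (w : GolayPt → ℤ) = -40) : w = latE none := by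
  set x : Fin 24 → ℤ := fun i => (w : GolayPt → ℤ) (pt i) with hx
  have hsum : ∀ f : GolayPt → ℤ, ∑ p, f p = ∑ i : Fin 24, f (pt i) := fun f =>
    (Fintype.sum_equiv ptEquiv _ _ fun i => rfl).symm
  rw [sqNorm, hsum] at hn
  rw [dotInt, hsum] at hu hv
  have hc : ∀ i : Fin 24, x i = x ⟨rep i % 24, Nat.mod_lt _ (by norm_num)⟩ := hconst
  have hU : ∀ i : Fin 24, (Spor.leechU : GolayPt → ℤ) (pt i) = if i = 0 ∨ i = 23 then 4 else 0 := by
    decide +kernel
  have hV : ∀ i : Fin 24, (Spor.leechV : GolayPt → ℤ) (pt i) = if i = 23 then -5 else -1 := by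
    decide +kernel
  simp only [hU, hV, ← hx] at hn hu hv
  change ∑ i, x i ^ 2 = 64 at hn
  change ∑ i : Fin 24, (if i = 0 ∨ i = 23 then 4 else 0) * x i = 32 at hu
  change ∑ i : Fin 24, (if i = 23 then -5 else -1) * x i = -40 at hv
  have e1 : x 3 = x 1 ∧ x 4 = x 1 ∧ x 6 = x 1 ∧ x 7 = x 1 ∧ x 9 = x 1 ∧ x 10 = x 1 ∧ x 11 = x 1 ∧
      x 12 = x 1 ∧ x 14 = x 1 ∧ x 15 = x 1 ∧ x 16 = x 1 ∧ x 17 = x 1 ∧ x 18 = x 1 ∧ x 21 = x 1 ∧
      x 22 = x 1 ∧ x 20 = x 2 ∧ x 8 = x 5 ∧ x 13 = x 5 ∧ x 19 = x 5 :=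
    ⟨hc 3, hc 4, hc 6, hc 7, hc 9, hc 10, hc 11, hc 12, hc 14, hc 15, hc 16, hc 17, hc 18, hc 21,
      hc 22, hc 20, hc 8, hc 13, hc 19⟩
  simp [Fin.sum_univ_succ, e1] at hn hu hv
  obtain ⟨ha, hb, hc2, hd, he⟩ := eq_of_eqns (a := x 23) (b := x 0) (c := x 2) (d := x 5) (e := x 1)
    (by linarith) (by linarith) (by linarith)
  refine Subtype.ext (funext fun p => ?_)
  rw [coe_latE, ← pt_idx p]
  generalize idx p = i
  show x i = _
  have hS : ∀ i : Fin 24, (Pi.single none 8 : GolayPt → ℤ) (pt i) = if i = 23 then 8 else 0 := by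
    decide +kernel
  have hR : ∀ i : Fin 24, (i = 23 ∧ (⟨rep i % 24, Nat.mod_lt _ (by norm_num)⟩ : Fin 24) = 23) ∨
      (i ≠ 23 ∧ ((⟨rep i % 24, Nat.mod_lt _ (by norm_num)⟩ : Fin 24) = 0 ∨
        (⟨rep i % 24, Nat.mod_lt _ (by norm_num)⟩ : Fin 24) = 1 ∨
        (⟨rep i % 24, Nat.mod_lt _ (by norm_num)⟩ : Fin 24) = 2 ∨
        (⟨rep i % 24, Nat.mod_lt _ (by norm_num)⟩ : Fin 24) = 5)) := by
    decide +kernel
  rw [hS, hc i]
  rcases hR i with ⟨h1, h2⟩ | ⟨h1, h2 | h2 | h2 | h2⟩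
  · rw [if_pos h1, h2, ha]
  · rw [if_neg h1, h2, hb]
  · rw [if_neg h1, h2, he]
  · rw [if_neg h1, h2, hc2]
  · rw [if_neg h1, h2, hd]

variable {G : Type*} [Group G] [Finite G]

/-- The permutations inside a copy of the pair stabiliser. -/
noncomputable def inc (e : G ≃* pairStab Spor.leechU) : mGrp →* G :=
  e.symm.toMonoidHom.comp (embed leechU_zero)

theorem inc_injective (e : G ≃* pairStab Spor.leechU) : Function.Injective (inc e) :=
  e.symm.injective.comp (embed_injective leechU_zero)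

theorem coe_inc (e : G ≃* pairStab Spor.leechU) (σ : mGrp) :
    ((e (inc e σ) : pairStab Spor.leechU) : Co0) = permW ⟨σ.1, fixPts_le_M24 _ σ.2⟩ := by
  rw [inc, MonoidHom.comp_apply]
  exact congrArg Subtype.val (e.apply_symm_apply _)

theorem isSimple (e : G ≃* pairStab Spor.leechU) (S : Sylow 2 G) :
    (groupFusionSystem (S : Subgroup G)).IsSimple 2 := by
  have hok := m22_check
  simp only [mathieuOk, Bool.and_eq_true, List.all_eq_true, List.contains_iff_mem] at hok
  obtain ⟨⟨hchain, hgensG⟩, ⟨⟨hz, hcen⟩, hsteps⟩, hoct⟩ := hok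
  obtain ⟨P₀, hP₀, hcard, hclos⟩ := exists_chain m22Gens hchain
  have hlen : m22Gens.length = 7 := by decide
  have hP₀G : P₀ ≤ mGrp := by
    rw [hclos, Subgroup.closure_le]
    intro σ hσ
    exact (mem_mGrp σ).mpr (hgensG _ hσ)
  let Pm : Subgroup mGrp := P₀.subgroupOf mGrp
  let P : Subgroup G := Pm.map (inc e)
  have hPcard : Nat.card P = 2 ^ 7 := by
    rw [Subgroup.card_map_of_injective (inc_injective e), ← hlen, ← hcard]
    exact Nat.card_congr (Subgroup.subgroupOfEquivOfLe hP₀G).toEquiv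
  have hGcard : Nat.card G = 898128000 := by
    have h := Sporadic.ConwayPairOrders.card_pair LeechOrbit.spec552
    rw [show LeechOrbit.root552 = -Spor.leechU from rfl, Sporadic.ConwayPairOrders.pairStab_neg,
      ← Nat.card_congr e.toEquiv] at h
    omega
  have hPlist : ∀ l ∈ elts m22Gens, ∃ σ : mGrp, σ ∈ Pm ∧ toList σ.1 = l := by
    intro l hl
    obtain ⟨σ, rfl⟩ := hP₀.2 l hl
    have hσ : σ ∈ P₀ := (hP₀.1 σ).mpr hl
    exact ⟨⟨σ, hP₀G hσ⟩, hσ, rfl⟩
  obtain ⟨z₀, hz₀, hz₀e⟩ := hPlist m22Z hz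
  refine FusionMathieu.isSimple_of_frame S P (by norm_num) hPcard (by rw [hGcard]; norm_num)
    (inc e z₀) ?_ ?_ ?_
  · rintro _ ⟨w, hw, rfl⟩ hcomm
    have h := List.all_eq_true.mp hcen _ ((hP₀.1 w.1).mp hw)
    have h1 : (m22Gens.all fun y => comp (toList w.1) y == comp y (toList w.1)) = true := by
      rw [List.all_eq_true]
      intro y hy
      obtain ⟨v, hv⟩ := exists_valid_of_chainOk hchain y hy
      subst hv
      have hvP : v ∈ P₀ := by rw [hclos]; exact Subgroup.subset_closure hy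
      rw [beq_iff_eq, ← toList_mul, ← toList_mul]
      have hc := hcomm (inc e ⟨v, hP₀G hvP⟩) ⟨⟨v, hP₀G hvP⟩, hvP, rfl⟩
      rw [← map_mul, ← map_mul] at hc
      exact congrArg (fun u : mGrp => toList u.1) (inc_injective e hc)
    rw [h1, Bool.not_true, Bool.false_or, Bool.or_eq_true, beq_iff_eq, beq_iff_eq] at h
    refine h.imp (fun he => ?_) (fun he => ?_)
    · rw [show w = 1 from Subtype.ext (toList_injective (he.trans toList_one.symm)), map_one]
    · rw [show w = z₀ from Subtype.ext (toList_injective (he.trans hz₀e.symm))]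
  · intro K hzK hclosed
    have hg := gens_mem_of_stepsOk mem_mGrp (P := Pm) (K := K.comap (inc e)) hPlist
      (fun g x hx hgx => by
        have h' := hclosed (inc e g) (inc e x) hx
          (by rw [← map_inv, ← map_mul, ← map_mul]; exact ⟨_, hgx, rfl⟩)
        rwa [← map_inv, ← map_mul, ← map_mul] at h')
      m22Steps m22Words [m22Z]
      (fun l hl => ⟨z₀, hzK, by rw [hz₀e, List.mem_singleton.mp hl]⟩) hsteps
    have hle : P₀ ≤ (K.comap (inc e)).map mGrp.subtype := by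
      rw [hclos, Subgroup.closure_le]
      intro σ hσ
      obtain ⟨τ, hτ, he⟩ := hg _ hσ
      exact ⟨τ, hτ, toList_injective he⟩
    rintro _ ⟨x, hx, rfl⟩
    obtain ⟨τ, hτ, he⟩ := hle hx
    rw [← Subtype.ext (show τ.1 = x.1 from he)]
    exact hτ
  · intro h hnorm q hq hq2 hh
    set γ : Co0 := ((e h : pairStab Spor.leechU) : Co0) with hγ
    have hγV : γ • Spor.leechV = Spor.leechV := (e h).2.1
    have hγU : γ • Spor.leechU = Spor.leechU := (e h).2.2
    have hN : h ∈ Subgroup.normalizer (P : Set G) := Subgroup.mem_normalizer_fintype hnorm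
    -- the image of the frame vector is fixed by `P`
    have hfixw : ∀ σ ∈ P₀, ∀ p : GolayPt, ((γ • latE none : leechLattice) : GolayPt → ℤ) (σ p) =
        ((γ • latE none : leechLattice) : GolayPt → ℤ) p := by
      intro σ hσ p
      obtain ⟨τ, -, hτe⟩ := (Subgroup.mem_normalizer_iff''.1 hN (inc e ⟨σ, hP₀G hσ⟩)).1
        ⟨⟨σ, hP₀G hσ⟩, hσ, rfl⟩
      have he' := congrArg (fun u : G => ((e u : pairStab Spor.leechU) : Co0)) hτe
      simp only [map_mul, map_inv, Subgroup.coe_mul, Subgroup.coe_inv, coe_inc, ← hγ] at he'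
      have hτ0 : (τ : Equiv.Perm GolayPt) none = none := (mem_fixPts.1 τ.2).2 none (by simp)
      have h1 : permW ⟨τ.1, fixPts_le_M24 _ τ.2⟩ • latE none = latE none := by
        rw [permW_latE]; exact congrArg latE hτ0
      rw [he'] at h1
      have h2 : permW ⟨σ, fixPts_le_M24 _ (hP₀G hσ)⟩ • (γ • latE none) = γ • latE none := by
        rw [mul_smul, mul_smul, inv_smul_eq_iff] at h1
        exact h1
      have h3 := congrArg (fun u : leechLattice => (u : GolayPt → ℤ) (σ p)) h2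
      simp only [permW_apply] at h3
      rw [← h3]
      simp
    have hE : γ • latE none = latE none := by
      refine eq_latE (fun i => ?_) ?_ ?_ ?_
      · have h1 := List.all_eq_true.1 orbits_ok i (List.mem_range.2 i.isLt)
        obtain ⟨l, hl, hli⟩ := List.any_eq_true.1 h1
        obtain ⟨σ, rfl⟩ := hP₀.2 l hl
        have hσ : σ ∈ P₀ := (hP₀.1 σ).mpr hl
        have hr : rep i % 24 = rep i := Nat.mod_eq_of_lt (by unfold rep; split_ifs <;> omega)
        have h2 := toList_getD σ (pt ⟨rep i % 24, Nat.mod_lt _ (by norm_num)⟩)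
        rw [idx_pt] at h2
        have h3 : idx (σ (pt ⟨rep i % 24, Nat.mod_lt _ (by norm_num)⟩)) = i :=
          Fin.ext (by rw [← h2]; simpa [hr] using Nat.eq_of_beq_eq_true hli)
        have h4 : σ (pt ⟨rep i % 24, Nat.mod_lt _ (by norm_num)⟩) = pt i := by rw [← pt_idx (σ _), h3]
        rw [← h4, hfixw σ hσ]
      · rw [sqNorm_smul_lat, coe_latE]; decide +kernel
      · have h2 := dot_smul_lat γ Spor.leechU (latE none)
        rw [hγU] at h2
        rw [h2, coe_latE]; decide +kernel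
      · have h2 := dot_smul_lat γ Spor.leechV (latE none)
        rw [hγV] at h2
        rw [h2, coe_latE]; decide +kernel
    obtain ⟨σ, hσ, hσ0⟩ := eq_permW hE (show (-1 : ℤ) ≠ 0 by norm_num) vecV_rest hγV
    have hσ1 : (σ : Equiv.Perm GolayPt) (some 0) = some 0 := by
      set j := (σ : Equiv.Perm GolayPt).symm (some 0) with hj
      have h2 := congrFun (congrArg Subtype.val hγU) (some 0)
      rw [hσ, permW_apply, ← hj] at h2
      have hj0 : j ≠ none := fun e0 => by
        have := congrArg (σ : Equiv.Perm GolayPt) e0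
        rw [hj, Equiv.apply_symm_apply, hσ0] at this
        exact Option.some_ne_none _ this
      have hj1 : j = some 0 := by
        by_contra hne
        simp [Spor.leechU, Spor.vecU, hj0, hne] at h2
      rw [hj, Equiv.symm_apply_eq] at hj1
      exact hj1.symm
    let τ : mGrp := ⟨σ.1, mem_fixPts.mpr ⟨σ.2, by simp [hσ0, hσ1]⟩⟩
    have hτ : inc e τ = h := e.injective (Subtype.ext (by rw [coe_inc]; exact hσ.symm))
    -- the normaliser inside the permutations
    have hle : P₀ ≤ P₀.comap (MulAut.conj τ.1).toMonoidHom := fun y hy => by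
      obtain ⟨v, hv, hve⟩ := hnorm _ ⟨⟨y, hP₀G hy⟩, hy, rfl⟩
      rw [← hτ, ← map_inv, ← map_mul, ← map_mul] at hve
      have hveq := inc_injective e hve
      show τ.1 * y * τ.1⁻¹ ∈ P₀
      have := congrArg Subtype.val hveq
      simp only [Subgroup.coe_mul, Subgroup.coe_inv] at this
      rw [← this]
      exact hv
    have hN' : τ.1 ∈ Subgroup.normalizer (P₀ : Set (Equiv.Perm GolayPt)) :=
      Subgroup.mem_normalizer_fintype fun y hy => hle hy
    simp only [octadOk, Bool.and_eq_true, List.all_eq_true, Nat.ble_eq] at hoct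
    obtain ⟨⟨⟨⟨ho1, ho2⟩, ho3⟩, ho4⟩, ho5⟩ := hoct
    have holt : m22Oct < 2 ^ 24 := ho3
    have hhq : τ.1 ^ q = 1 := by
      have : inc e (τ ^ q) = inc e 1 := by rw [map_pow, map_one, hτ, hh]
      exact congrArg Subtype.val (inc_injective e this)
    have hfix : ∀ p ∈ decS m22Oct, τ.1 p = p := by
      intro p hp
      rw [mem_decS] at hp
      have h1 := ho5 (idx p).val (List.mem_range.mpr (idx p).isLt)
      rw [hp, Bool.not_true, Bool.false_or, List.any_eq_true] at h1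
      obtain ⟨b, hb', hbp⟩ := h1
      refine fix_of_fixChk 12 _ hP₀ (ho4 b hb') (maskOf_lt _) q hq hq2 τ.1 hN' hhq (fun r hr => ?_) p
        (mem_decS.mpr hbp)
      rw [classMask, mem_decS_maskOf, Bool.and_eq_true, ← mem_decS] at hr ⊢
      refine ⟨?_, by rw [popc_orbMask_apply hP₀ hN']; exact hr.2⟩
      rw [show b.1 = 16777215 by
        simp only [m22Bases, List.mem_cons, List.not_mem_nil, or_false] at hb'
        rcases hb' with rfl | rfl | rfl <;> rfl]
      exact mem_decS_univ _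
    have hoct8 : decS m22Oct ∈ octads := by
      rw [mem_octads, encS_decS holt]
      exact ⟨ho1, Nat.eq_of_beq_eq_true ho2⟩
    have hmem : τ.1 ∈ M24 ⊓ fixingSubgroup (Equiv.Perm GolayPt) (decS m22Oct : Set GolayPt) :=
      Subgroup.mem_inf.mpr ⟨fixPts_le_M24 _ τ.2, (mem_fixingSubgroup_iff _).mpr fun p hp => hfix p hp⟩
    have hsq := (octad_fixing hoct8).2 _ hmem
    obtain ⟨k, hk⟩ := hq.eq_two_or_odd'.resolve_left hq2
    rw [hk, pow_succ, pow_mul, pow_two, hsq, one_pow, one_mul] at hhq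
    rw [← hτ, show τ = 1 from Subtype.ext hhq, map_one]

/-- The standard group as the pair stabiliser. -/
noncomputable def equivPair : Spor.McL ≃* pairStab Spor.leechU where
  toFun g := ⟨⟨g.1, g.2.1.1⟩, g.2.1.2, g.2.2⟩
  invFun g := ⟨g.1.1, ⟨g.1.2, g.2.1⟩, g.2.2⟩
  left_inv _ := rfl
  right_inv _ := rfl
  map_mul' _ _ := rfl

end CfsgLib.Fusion68.McLTwo
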