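import Cfsg.Agent.Lib.Fusion68.McLInvCert
import Cfsg.Agent.Lib.Fusion68.McLTwo

/-!
The action of the centraliser of an involution of the pair stabiliser on fifteen cliques.
-/

set_option autoImplicit false
set_option maxRecDepth 20000

namespace CfsgLib.Fusion68.McLInv

open Cfsg CfsgLib.Golay CfsgLib.Golay.LeechOrbit CfsgLib.FusionMathieu CfsgLib.MonsterType
open CfsgLib.LeechEight CfsgLib.Sporadic.Conway CfsgLib.Sporadic.ConwayPairs

theorem exists_zσ : ∃ σ : McLTwo.mGrp, toList σ.1 = m22Z := by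
  have h := z_ok
  simp only [Bool.and_eq_true] at h
  obtain ⟨σ, hσ⟩ := exists_perm_of_valid h.1.1.1
  exact ⟨⟨σ, (McLTwo.mem_mGrp σ).2 (hσ ▸ h.1.1.2)⟩, hσ⟩

/-- The central involution of the Sylow group as a permutation. -/
noncomputable def zσ : McLTwo.mGrp := exists_zσ.choose

theorem toList_zσ : toList zσ.1 = m22Z := exists_zσ.choose_spec

/-- The central involution in `M24`. -/
noncomputable def zM : M24 := ⟨zσ.1, fixPts_le_M24 _ zσ.2⟩

theorem toL_zM (v : leechLattice) :
    toL ((permW zM • v : leechLattice) : GolayPt → ℤ) = moveL (invP m22Z) (toL (v : GolayPt → ℤ)) :=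
  toL_permW zM toList_zσ v

theorem fI_facts (i : Fin 35) : (fI i).length = 24 ∧ latA (ofL (fI i)) = true ∧ dotL (fI i) (fI i) = 32 ∧
    dotL (toL (Spor.leechV : GolayPt → ℤ)) (fI i) = 24 ∧ dotL (toL (negU : GolayPt → ℤ)) (fI i) = 16 ∧
    moveL (invP m22Z) (fI i) = fI i := by
  have h := fI_ok i
  simp only [Bool.and_eq_true, beq_iff_eq] at h
  exact ⟨h.1.1.1.1.1, h.1.1.1.1.2, h.1.1.1.2, h.1.1.2, h.1.2, h.2⟩

/-- A fixed vector. -/
def fL (i : Fin 35) : leechLattice := ⟨ofL (fI i), mem_of_latA (fI_facts i).2.1⟩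

theorem toL_fL (i : Fin 35) : toL (fL i : GolayPt → ℤ) = fI i := toL_ofL (fI_facts i).1

theorem fL_apply (i : Fin 35) (p : Fin 24) : (fL i : GolayPt → ℤ) (pt p) = (fI i).getD p.val 0 := by
  show ofL (fI i) (pt p) = _
  rw [ofL, idx_pt]

theorem fL_injective : Function.Injective fL := fun i j h =>
  fI_injective i j (by rw [← toL_fL, ← toL_fL, h])

theorem smul_fL_of_zM (i : Fin 35) : permW zM • fL i = fL i := by
  apply Subtype.ext
  apply toL_injective
  rw [toL_zM, toL_fL, (fI_facts i).2.2.2.2.2]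

theorem fL_mem (i : Fin 35) : fL i ∈ consSet cs275 := by
  obtain ⟨-, -, hn, hv, hu, -⟩ := fI_facts i
  refine ⟨by rw [sqNorm_eq_dotL, toL_fL]; exact hn, fun c hc => ?_⟩
  simp only [cs275, List.mem_cons, List.not_mem_nil, or_false] at hc
  rcases hc with rfl | rfl
  · rw [dotInt_eq_dotL, toL_fL]; exact hv
  · rw [dotInt_eq_dotL, toL_fL]; exact hu

theorem exists_fL {x : leechLattice} (hx : x ∈ consSet cs275) (hfix : permW zM • x = x) :
    ∃ i, fL i = x := by
  obtain ⟨k, hk, he⟩ := C275.has_sound (cover275 x hx)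
  have h := Sporadic.of_allFrom_zero fixed275 (i := k) hk
  rw [forceN_eq, digitsF_eq, he, ← toL_vecK, vecK_keyOf hx.1, ← toL_zM, hfix] at h
  simp only [beq_self_eq_true, Bool.not_true, Bool.false_or, List.contains_iff_mem] at h
  obtain ⟨i, hi, hie⟩ := List.mem_iff_getElem.1 h
  have hi' : i < 35 := hi
  refine ⟨⟨i, hi'⟩, Subtype.ext (toL_injective ?_)⟩
  rw [toL_fL, fI, List.getD_eq_getElem _ _ hi, hie]

theorem adjI_iff (i j : Fin 35) :
    adjI i j = true ↔ i ≠ j ∧ dotInt (fL i : GolayPt → ℤ) (fL j : GolayPt → ℤ) = 16 := by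
  simp only [adjI, Bool.and_eq_true, Bool.not_eq_true', decide_eq_false_iff_not, beq_iff_eq,
    dotInt_eq_dotL, toL_fL, ne_eq]

theorem card_ptS (j : Fin 15) : (ptS j).card = 7 := by
  have h := pts_ok j
  simp only [Bool.and_eq_true, beq_iff_eq, decide_eq_true_eq] at h
  rw [ptS, List.toFinset_card_of_nodup h.1.1.1.2, h.1.1.1.1]

theorem adj_ptS (j : Fin 15) {a b : Fin 35} (ha : a ∈ ptS j) (hb : b ∈ ptS j) (hab : a ≠ b) :
    adjI a b = true := by
  have h := pts_ok j
  simp only [Bool.and_eq_true, List.all_eq_true, Bool.or_eq_true, beq_iff_eq] at h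
  rw [ptS, List.mem_toFinset] at ha hb
  exact (h.2 a ha b hb).resolve_left hab

theorem coord_sum (S : List (Fin 35)) (hS : S.Nodup) (p : Fin 24) :
    ((∑ i ∈ S.toFinset, fL i - Spor.leechU : leechLattice) : GolayPt → ℤ) (pt p) =
      (sumU S).getD p.val 0 := by
  rw [sumU, List.getD_eq_getElem _ _ (by simp), List.getElem_ofFn, AddSubgroup.coe_sub, Pi.sub_apply,
    AddSubmonoidClass.coe_finsetSum, Finset.sum_apply, List.sum_toFinset _ hS, getD_toL]
  congr 1
  exact congrArg List.sum (List.map_congr_left fun i _ => fL_apply i p)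

theorem ptS_three (j : Fin 15) :
    ∃ y : leechLattice, ∑ i ∈ ptS j, fL i - Spor.leechU = (3 : ℤ) • y := by
  have h := pts_ok j
  simp only [Bool.and_eq_true, beq_iff_eq, decide_eq_true_eq] at h
  refine ⟨⟨_, mem_of_latA h.1.2⟩, Subtype.ext (funext fun q => ?_)⟩
  rw [← pt_idx q]
  generalize idx q = p
  rw [ptS, coord_sum _ h.1.1.1.2 p, AddSubgroup.coe_zsmul, Pi.smul_apply, smul_eq_mul]
  show _ = 3 * ofL _ (pt p)
  have h3 := List.all_eq_true.1 h.1.1.2
  have hl : p.val < (sumU (ptL.getD j.val [])).length := by simp [sumU]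
  rw [ofL, idx_pt, List.getD_eq_getElem _ _ hl, List.getD_eq_getElem _ _
      (show p.val < ((sumU (ptL.getD j.val [])).map fun a => a / 3).length by rw [List.length_map]; exact hl),
    List.getElem_map]
  have h4 := h3 _ (List.getElem_mem hl)
  rw [beq_iff_eq] at h4
  omega

/-- An automorphism of the lattice fixing `u` and inducing a map on the fixed vectors. -/
structure Moves (γ : Co0) (r : Fin 35 → Fin 35) : Prop where
  fixU : γ • Spor.leechU = Spor.leechU
  eq : ∀ i, γ • fL i = fL (r i)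

variable {γ : Co0} {r : Fin 35 → Fin 35}

theorem Moves.injective (h : Moves γ r) : Function.Injective r := fun i j hij => by
  have e : γ • fL i = γ • fL j := by rw [h.eq, h.eq, hij]
  exact fL_injective (smul_left_cancel γ e)

theorem Moves.exists_pt (h : Moves γ r) (j : Fin 15) : ∃ k, (ptS j).image r = ptS k := by
  set S := (List.finRange 35).filter fun i => decide (i ∈ (ptS j).image r) with hS
  have hnd : S.Nodup := (List.nodup_finRange 35).filter _
  have hSf : S.toFinset = (ptS j).image r := by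
    ext i; simp [hS]
  have hlen : S.length = 7 := by
    rw [← List.toFinset_card_of_nodup hnd, hSf, Finset.card_image_of_injective _ h.injective, card_ptS]
  have hpw : S.Pairwise fun a b => adjI a b = true := by
    refine List.Pairwise.imp_of_mem ?_ hnd
    intro a b ha hb hab
    rw [← List.mem_toFinset, hSf, Finset.mem_image] at ha hb
    obtain ⟨a', ha', rfl⟩ := ha
    obtain ⟨b', hb', rfl⟩ := hb
    obtain ⟨-, hd⟩ := (adjI_iff a' b').1 (adj_ptS j ha' hb' fun e => hab (by rw [e]))
    refine (adjI_iff _ _).2 ⟨hab, ?_⟩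
    rw [← h.eq, ← h.eq, dot_smul_lat]
    exact hd
  have hcl := List.all_eq_true.1 cliques_ok S (mem_cliques 7 _ S hlen List.filter_sublist hpw)
  have hb : ptB S = true := by
    obtain ⟨y, hy⟩ := ptS_three j
    have e : ∑ i ∈ S.toFinset, fL i - Spor.leechU = (3 : ℤ) • (γ • y) := by
      rw [hSf, Finset.sum_image fun a _ b _ he => h.injective he]
      simp only [← h.eq]
      calc ∑ i ∈ ptS j, γ • fL i - Spor.leechU
          = addHom γ (∑ i ∈ ptS j, fL i - Spor.leechU) := by
            rw [map_sub, map_sum]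
            exact congrArg₂ _ rfl h.fixU.symm
        _ = (3 : ℤ) • (γ • y) := by rw [hy, map_zsmul]; rfl
    rw [ptB, List.all_eq_true]
    intro a ha
    obtain ⟨p, hp, rfl⟩ := List.mem_iff_getElem.1 ha
    have hp' : p < 24 := by simpa [sumU] using hp
    have := coord_sum S hnd ⟨p, hp'⟩
    rw [e, AddSubgroup.coe_zsmul, Pi.smul_apply, smul_eq_mul, List.getD_eq_getElem _ _ hp] at this
    rw [beq_iff_eq, ← this]
    omega
  rw [hb, Bool.not_true, Bool.false_or, List.any_eq_true] at hcl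
  obtain ⟨k, -, hk⟩ := hcl
  exact ⟨k, hSf.symm.trans (of_decide_eq_true hk)⟩

/-- The point map. -/
noncomputable def Moves.pi (h : Moves γ r) (j : Fin 15) : Fin 15 := (h.exists_pt j).choose

theorem Moves.pi_spec (h : Moves γ r) (j : Fin 15) : (ptS j).image r = ptS (h.pi j) :=
  (h.exists_pt j).choose_spec

theorem Moves.pi_eq (h : Moves γ r) {j k : Fin 15} (e : (ptS j).image r = ptS k) : h.pi j = k :=
  ptS_injective _ _ ((h.pi_spec j).symm.trans e)

theorem Moves.pi_injective (h : Moves γ r) : Function.Injective h.pi := fun j k e =>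
  ptS_injective _ _ (Finset.image_injective h.injective (by rw [h.pi_spec, h.pi_spec, e]))

theorem Moves.pi_add (h : Moves γ r) {j k l : Fin 15} (hjk : j ≠ k)
    (hl : vecOf l = vecOf j + vecOf k) : vecOf (h.pi l) = vecOf (h.pi j) + vecOf (h.pi k) := by
  obtain ⟨i, l', hij, hik, hil, hl'⟩ := third_exists j k hjk
  obtain rfl : l' = l := vecOf_injective _ _ (hl'.trans hl.symm)
  have hne : ∀ {a b c : Fin 15}, vecOf a = vecOf b + vecOf c → b ≠ a := fun {a b c} e hab => by
    subst hab
    exact vecOf_ne_zero c (by simpa using e.symm)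
  have hjl : j ≠ l' := hne hl
  have hkl : k ≠ l' := hne (hl.trans (add_comm _ _))
  have hm : ∀ {a : Fin 15}, i ∈ ptS a → r i ∈ ptS (h.pi a) := fun {a} ha => by
    rw [← h.pi_spec]; exact Finset.mem_image_of_mem _ ha
  exact line_pts (r i) _ (hm hij) _ (hm hik) _ (hm hil) (h.pi_injective.ne hjk)
    (h.pi_injective.ne hjl) (h.pi_injective.ne hkl)

/-- The induced map on vectors. -/
noncomputable def Moves.vmap (h : Moves γ r) (v : Fin 4 → ZMod 2) : Fin 4 → ZMod 2 :=
  if hv : v = 0 then 0 else vecOf (h.pi (vecOf_surjective v hv).choose)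

theorem Moves.vmap_vecOf (h : Moves γ r) (j : Fin 15) : h.vmap (vecOf j) = vecOf (h.pi j) := by
  rw [Moves.vmap, dif_neg (vecOf_ne_zero j)]
  congr 2
  exact vecOf_injective _ _ (vecOf_surjective _ (vecOf_ne_zero j)).choose_spec

theorem add_self_vec : ∀ v : Fin 4 → ZMod 2, v + v = 0 := by decide +kernel

theorem Moves.vmap_add (h : Moves γ r) (v w : Fin 4 → ZMod 2) : h.vmap (v + w) = h.vmap v + h.vmap w := by
  have h0 : h.vmap 0 = 0 := by rw [Moves.vmap, dif_pos rfl]
  rcases eq_or_ne v 0 with rfl | hv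
  · rw [zero_add, h0, zero_add]
  rcases eq_or_ne w 0 with rfl | hw
  · rw [add_zero, h0, add_zero]
  rcases eq_or_ne v w with rfl | hne
  · rw [add_self_vec, h0, add_self_vec]
  obtain ⟨j, rfl⟩ := vecOf_surjective v hv
  obtain ⟨k, rfl⟩ := vecOf_surjective w hw
  have hs : vecOf j + vecOf k ≠ 0 := fun e => hne (by
    have := congrArg (· + vecOf k) e
    rwa [add_assoc, add_self_vec, add_zero, zero_add] at this)
  obtain ⟨l, hl⟩ := vecOf_surjective _ hs
  rw [← hl, h.vmap_vecOf, h.vmap_vecOf, h.vmap_vecOf]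
  exact h.pi_add (fun e => hne (by rw [e])) hl

/-- The induced linear map. -/
noncomputable def Moves.lin (h : Moves γ r) : (Fin 4 → ZMod 2) →ₗ[ZMod 2] (Fin 4 → ZMod 2) :=
  (AddMonoidHom.mk' h.vmap h.vmap_add).toZModLinearMap 2

theorem Moves.lin_apply (h : Moves γ r) (v : Fin 4 → ZMod 2) : h.lin v = h.vmap v := rfl

theorem latE_none_span : (3 : ℤ) • latE none =
    coefU • Spor.leechU + coefV • Spor.leechV + ∑ i : Fin 35, coefF.getD i.val 0 • fL i := by
  refine Subtype.ext (funext fun q => ?_)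
  rw [← pt_idx q]
  generalize idx q = p
  rw [AddSubgroup.coe_zsmul, Pi.smul_apply, coe_latE, smul_eq_mul, AddSubgroup.coe_add,
    AddSubgroup.coe_add, AddSubgroup.coe_zsmul, AddSubgroup.coe_zsmul, AddSubmonoidClass.coe_finsetSum]
  simp only [Pi.add_apply, Pi.smul_apply, Finset.sum_apply, smul_eq_mul, AddSubgroup.coe_zsmul,
    fL_apply]
  rw [← getD_toL (Spor.leechU : GolayPt → ℤ), ← getD_toL (Spor.leechV : GolayPt → ℤ), span_ok p]
  have hS : ∀ i : Fin 24, 3 * (Pi.single none 8 : GolayPt → ℤ) (pt i) = if i.val = 23 then 24 else 0 := by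
    decide +kernel
  exact hS p

end CfsgLib.Fusion68.McLInv
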