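import Cfsg.Agent.Lib.Fusion68.McLInvData
import Cfsg.Agent.Lib.Golay.LeechOrbit.CertMcL
import Cfsg.Agent.Lib.FusionMathieu.M22

/-!
Checks for the centraliser of an involution in the stabiliser of the pair.
-/

set_option autoImplicit false
set_option maxRecDepth 100000

namespace CfsgLib.Fusion68.McLInv

open Cfsg CfsgLib.Golay CfsgLib.Golay.LeechOrbit CfsgLib.FusionMathieu CfsgLib.Sporadic

/-- The coordinates of a fixed vector. -/
def fI (i : Fin 35) : List ℤ := fF.getD i.val []

theorem fI_ok : ∀ i : Fin 35, ((fI i).length == 24 && latA (ofL (fI i)) && dotL (fI i) (fI i) == 32 &&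
    dotL (toL (Spor.leechV : GolayPt → ℤ)) (fI i) == 24 &&
    dotL (toL (negU : GolayPt → ℤ)) (fI i) == 16 && moveL (invP m22Z) (fI i) == fI i) = true := by
  decide +kernel

theorem fI_injective : ∀ i j : Fin 35, fI i = fI j → i = j := by decide +kernel

theorem fixed275 : allFrom 0 275 (fun i => forceN (C275.key i) fun k =>
    !(moveL (invP m22Z) (digitsF 24 k) == digitsF 24 k) || fF.contains (digitsF 24 k)) = true := by
  decide +kernel

/-- Two fixed vectors with inner product 16. -/
def adjI (i j : Fin 35) : Bool := !decide (i = j) && dotL (fI i) (fI j) == 16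

/-- A list as a finite set of indices. -/
def ptS (j : Fin 15) : Finset (Fin 35) := (ptL.getD j.val []).toFinset

/-- The sum of some fixed vectors, less `u`. -/
def sumU (S : List (Fin 35)) : List ℤ :=
  List.ofFn fun p : Fin 24 => (S.map fun i => (fI i).getD p.val 0).sum -
    (toL (Spor.leechU : GolayPt → ℤ)).getD p.val 0

/-- Divisibility of the sum by three. -/
def ptB (S : List (Fin 35)) : Bool := (sumU S).all fun a => a % 3 == 0

theorem pts_ok : ∀ j : Fin 15, ((ptL.getD j.val []).length == 7 && decide (ptL.getD j.val []).Nodup &&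
    ptB (ptL.getD j.val []) && latA (ofL ((sumU (ptL.getD j.val [])).map fun a => a / 3)) &&
    (ptL.getD j.val []).all fun a => (ptL.getD j.val []).all fun b => a == b || adjI a b) = true := by
  decide +kernel

theorem ptS_injective : ∀ j k : Fin 15, ptS j = ptS k → j = k := by decide +kernel

/-- Cliques of given size inside a list. -/
def cliques : ℕ → List (Fin 35) → List (List (Fin 35))
  | 0, _ => [[]]
  | n + 1, l => l.tails.flatMap fun
    | [] => []
    | a :: t => (cliques n (t.filter (adjI a))).map (a :: ·)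

theorem mem_cliques : ∀ (n : ℕ) (l S : List (Fin 35)), S.length = n → S.Sublist l →
    S.Pairwise (fun a b => adjI a b = true) → S ∈ cliques n l := by
  intro n
  induction n with
  | zero => intro l S hn _ _; simp [List.length_eq_zero_iff.1 hn, cliques]
  | succ n ih =>
    intro l S hn hsub hpw
    obtain ⟨a, S', rfl⟩ := List.exists_cons_of_length_eq_add_one hn
    obtain ⟨r1, r2, rfl, ha, hS⟩ := List.cons_sublist_iff.1 hsub
    obtain ⟨p, q, rfl⟩ := List.append_of_mem ha
    rw [cliques, List.mem_flatMap]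
    refine ⟨a :: (q ++ r2), ?_, List.mem_map.2 ⟨S', ?_, rfl⟩⟩
    · rw [List.mem_tails]
      exact ⟨p, by simp⟩
    · rw [List.pairwise_cons] at hpw
      refine ih _ _ (by simpa using hn) ?_ hpw.2
      have h2 := (hS.trans (List.sublist_append_right q r2)).filter (adjI a)
      rwa [List.filter_eq_self.2 hpw.1] at h2

theorem cliques_ok : ((cliques 7 (List.finRange 35)).all fun S =>
    !ptB S || (List.finRange 15).any fun j => decide (S.toFinset = ptS j)) = true := by
  decide +kernel

theorem line_ok : ∀ i i' : Fin 35, (∀ j : Fin 15, i ∈ ptS j → i' ∈ ptS j) → i' = i := by decide +kernel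

/-- The label of a point. -/
def vecOf (j : Fin 15) : Fin 4 → ZMod 2 := fun k => if (j.val + 1).testBit k.val then 1 else 0

theorem vecOf_injective : ∀ j k : Fin 15, vecOf j = vecOf k → j = k := by decide +kernel

theorem vecOf_surjective : ∀ v : Fin 4 → ZMod 2, v ≠ 0 → ∃ j, vecOf j = v := by decide +kernel

theorem vecOf_ne_zero : ∀ j, vecOf j ≠ 0 := by decide +kernel

theorem third_exists : ∀ j k : Fin 15, j ≠ k →
    ∃ i : Fin 35, ∃ l : Fin 15, i ∈ ptS j ∧ i ∈ ptS k ∧ i ∈ ptS l ∧ vecOf l = vecOf j + vecOf k := by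
  decide +kernel

theorem line_pts : ∀ i : Fin 35, ∀ a : Fin 15, i ∈ ptS a → ∀ b : Fin 15, i ∈ ptS b →
    ∀ c : Fin 15, i ∈ ptS c → a ≠ b → a ≠ c → b ≠ c → vecOf c = vecOf a + vecOf b := by
  decide +kernel

theorem span_ok : ∀ p : Fin 24,
    (coefU * (toL (Spor.leechU : GolayPt → ℤ)).getD p.val 0 +
      coefV * (toL (Spor.leechV : GolayPt → ℤ)).getD p.val 0 +
      ∑ i : Fin 35, coefF.getD i.val 0 * (fI i).getD p.val 0) =
    if p.val = 23 then 24 else 0 := by
  decide +kernel

theorem col_ok : ∀ p q : Fin 24, (∀ i : Fin 35, (fI i).getD p.val 0 = (fI i).getD q.val 0) →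
    (toL (Spor.leechV : GolayPt → ℤ)).getD p.val 0 = (toL (Spor.leechV : GolayPt → ℤ)).getD q.val 0 →
    (toL (Spor.leechU : GolayPt → ℤ)).getD p.val 0 = (toL (Spor.leechU : GolayPt → ℤ)).getD q.val 0 →
    q.val = p.val ∨ q.val = m22Z.getD p.val 0 := by
  decide +kernel

/-- The permutation exchanging the two-cycles selected by a choice. -/
def buildL (c : Fin 8 → Bool) : List ℕ :=
  List.ofFn fun p : Fin 24 =>
    bif (List.finRange 8).any (fun k => c k &&
      (reps.getD k.val 0 == p.val || m22Z.getD (reps.getD k.val 0) 0 == p.val))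
    then m22Z.getD p.val 0 else p.val

theorem build_ok : ∀ c : Fin 8 → Bool, inG22 (buildL c) = true → buildL c = idL ∨ buildL c = m22Z := by
  decide +kernel

theorem reps_ok : ∀ p : Fin 24, m22Z.getD p.val 0 ≠ p.val →
    ∃ k : Fin 8, ((reps.getD k.val 0 = p.val ∧ ∀ k' : Fin 8,
        (reps.getD k'.val 0 = p.val ∨ m22Z.getD (reps.getD k'.val 0) 0 = p.val) → k' = k) ∨
      (m22Z.getD (reps.getD k.val 0) 0 = p.val ∧ reps.getD k.val 0 ≠ p.val ∧
        m22Z.getD p.val 0 = reps.getD k.val 0 ∧ ∀ k' : Fin 8,
        (reps.getD k'.val 0 = p.val ∨ m22Z.getD (reps.getD k'.val 0) 0 = p.val) → k' = k)) := by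
  decide +kernel

theorem reps_moved : ∀ k : Fin 8, reps.getD k.val 0 < 24 ∧ m22Z.getD (reps.getD k.val 0) 0 < 24 ∧
    ∀ p : Fin 24, (reps.getD k.val 0 = p.val ∨ m22Z.getD (reps.getD k.val 0) 0 = p.val) →
      m22Z.getD p.val 0 ≠ p.val := by
  decide +kernel

theorem conjs_ok : ((elts m22Gens).all fun x => x == idL || !(comp x x == idL) ||
    conjs.any fun c => c.1 == x) = true := by
  decide +kernel

theorem conjs_valid : (conjs.all fun c =>
    valid c.2 && inG22 c.2 && comp c.2 c.1 == comp m22Z c.2) = true := by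
  decide +kernel

theorem rootZ_ok : (valid rootZ && inG22 rootZ && comp rootZ rootZ == m22Z) = true := by
  decide +kernel

theorem z_ok : (valid m22Z && inG22 m22Z && comp m22Z m22Z == idL && !(m22Z == idL)) = true := by
  decide +kernel

theorem words_fix : fixB [wA, wB]
    ([toL (Spor.leechV : GolayPt → ℤ), toL (Spor.leechU : GolayPt → ℤ)]) = true := by
  decide +kernel

theorem words_comm : ([wA, wB].all fun w => (List.finRange 24).all fun j =>
    appE w (moveL (invP m22Z) (e8L j)) == moveL (invP m22Z) (appE w (e8L j))) = true := by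
  decide +kernel

/-- The test that a word moves the fifteen cliques as given. -/
def imgOk (w : List Letter) (im : List (Fin 15)) : Bool :=
  (List.finRange 15).all fun j => (ptL.getD j.val []).all fun i =>
    (List.finRange 35).any fun i' => decide (i' ∈ ptS (im.getD j.val 0)) && (appE w (fI i) == fI i')

theorem imgs_ok : imgOk wA imA = true ∧ imgOk wB imB = true := by decide +kernel

/-- The matrix of a list of images. -/
def matOf (im : List (Fin 15)) : Matrix (Fin 4) (Fin 4) (ZMod 2) :=
  Matrix.of fun a b => vecOf (im.getD (2 ^ b.val - 1) 0) a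

theorem basis_ok : ∀ b : Fin 4, ∃ j : Fin 15, j.val = 2 ^ b.val - 1 ∧ vecOf j = Pi.single b 1 := by
  decide +kernel

theorem tv_ok : ∀ a b : Fin 4, a ≠ b → ∃ t ∈ tvWords, t.1 = a ∧ t.2.1 = b ∧
    (t.2.2.map fun k => bif k then matOf imB else matOf imA).prod = Matrix.transvection a b 1 := by
  decide +kernel

theorem noncomm : matOf imA * matOf imB ≠ matOf imB * matOf imA := by decide +kernel

end CfsgLib.Fusion68.McLInv
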