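import Cfsg.Agent.Lib.Golay.LeechOrbit.Elem

/-!
Data for the centraliser of an involution in the stabiliser of the pair.
-/

set_option autoImplicit false

namespace CfsgLib.Fusion68.McLInv

open CfsgLib.Golay.LeechOrbit

/-- The 35 fixed vectors among the 275. -/
def fF : List (List ℤ) := [
  [0, 0, -4, 0, 0, 0, 0, 0, 0, 0, 0, 0, 0, 0, 0, 0, 0, 0, 0, 0, 0, 0, 0, -4],
  [0, 0, 0, 0, 0, -4, 0, 0, 0, 0, 0, 0, 0, 0, 0, 0, 0, 0, 0, 0, 0, 0, 0, -4],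
  [-1, -1, -1, -1, 1, -1, -1, 1, 1, -1, -1, -1, -1, -1, 1, -1, -1, -1, -1, 1, 1, 1, -1, -3],
  [0, 0, 0, 0, 0, 0, 0, 0, 0, 0, 0, 0, 0, 0, 0, 0, 0, 0, 0, 0, -4, 0, 0, -4],
  [0, 0, 0, 0, 0, 0, 0, 0, 0, 0, 0, 0, 0, -4, 0, 0, 0, 0, 0, 0, 0, 0, 0, -4],
  [0, 0, 0, 0, 0, 0, 0, 0, -4, 0, 0, 0, 0, 0, 0, 0, 0, 0, 0, 0, 0, 0, 0, -4],
  [-2, 0, -2, -2, 0, 0, -2, 0, 0, 0, 0, 0, -2, 0, 0, 0, -2, 0, 0, 0, -2, 0, 0, -2],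
  [-2, 0, -2, 0, 0, 0, 0, 0, 0, 0, 0, -2, 0, 0, -2, 0, 0, 0, 0, 0, -2, -2, -2, -2],
  [0, 0, 0, 0, 0, 0, 0, 0, 0, 0, 0, 0, 0, 0, 0, 0, 0, 0, 0, -4, 0, 0, 0, -4],
  [-1, -1, 1, 1, 1, 1, -1, 1, -1, -1, -1, -1, -1, -1, -1, -1, 1, -1, -1, 1, -1, -1, -1, -3],
  [-1, 1, -1, 1, -1, 1, -1, -1, -1, -1, -1, -1, -1, 1, -1, 1, 1, -1, -1, -1, 1, -1, -1, -3],
  [-2, -2, 0, 0, -2, -2, 0, -2, -2, 0, 0, 0, 0, 0, 0, -2, 0, 0, 0, 0, 0, 0, 0, -2],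
  [-1, 1, 1, -1, -1, 1, -1, -1, -1, -1, -1, 1, -1, -1, -1, 1, -1, -1, -1, 1, -1, -1, 1, -3],
  [-1, -1, 1, -1, 1, -1, 1, 1, 1, -1, -1, -1, 1, 1, -1, -1, -1, -1, -1, -1, -1, -1, -1, -3],
  [-1, -1, 1, 1, -1, -1, -1, -1, 1, -1, -1, -1, -1, 1, -1, -1, 1, 1, 1, -1, -1, -1, -1, -3],
  [-1, -1, 1, -1, -1, -1, -1, -1, 1, 1, 1, 1, -1, 1, -1, -1, -1, -1, -1, -1, -1, -1, 1, -3],
  [-2, 0, -2, 0, 0, -2, 0, 0, -2, 0, 0, 0, 0, -2, 0, 0, 0, 0, 0, -2, -2, 0, 0, -2],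
  [-1, 1, -1, -1, -1, -1, 1, -1, 1, -1, -1, -1, 1, -1, -1, 1, -1, -1, -1, 1, 1, -1, -1, -3],
  [-2, 0, -2, 0, -2, 0, 0, -2, 0, 0, 0, 0, 0, 0, 0, 0, 0, -2, -2, 0, -2, 0, 0, -2],
  [-1, -1, -1, -1, -1, 1, 1, -1, -1, 1, 1, -1, 1, 1, -1, -1, -1, -1, -1, -1, 1, -1, -1, -3],
  [-1, -1, 1, -1, -1, 1, 1, -1, -1, -1, -1, -1, 1, -1, -1, -1, -1, 1, 1, 1, -1, -1, -1, -3],
  [-2, 0, 0, -2, 0, -2, 0, 0, -2, 0, 0, -2, 0, 0, 0, 0, -2, 0, 0, 0, 0, 0, -2, -2],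
  [-1, -1, -1, -1, -1, -1, -1, -1, 1, -1, -1, 1, -1, -1, -1, -1, -1, 1, 1, 1, 1, -1, 1, -3],
  [-1, 1, 1, -1, -1, -1, -1, -1, 1, -1, -1, -1, -1, 1, 1, 1, -1, -1, -1, -1, -1, 1, -1, -3],
  [-2, -2, -2, 0, 0, 0, 0, 0, 0, -2, -2, 0, 0, 0, 0, -2, 0, 0, 0, 0, -2, 0, 0, -2],
  [-2, 0, 0, 0, 0, -2, -2, 0, -2, 0, 0, 0, -2, 0, -2, 0, 0, 0, 0, 0, 0, -2, 0, -2],
  [-1, -1, -1, -1, 1, 1, -1, 1, -1, -1, -1, 1, -1, 1, -1, -1, -1, -1, -1, -1, 1, -1, 1, -3],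
  [-2, 0, 0, 0, 0, -2, 0, 0, -2, -2, -2, 0, 0, 0, 0, 0, 0, -2, -2, 0, 0, 0, 0, -2],
  [-2, 0, 0, 0, 0, 0, -2, 0, 0, 0, 0, -2, -2, -2, 0, 0, 0, 0, 0, -2, 0, 0, -2, -2],
  [-2, -2, 0, 0, 0, 0, 0, 0, 0, 0, 0, 0, 0, -2, 0, -2, 0, -2, -2, -2, 0, 0, 0, -2],
  [-1, -1, -1, 1, -1, -1, -1, -1, 1, 1, 1, -1, -1, -1, -1, -1, 1, -1, -1, 1, 1, -1, -1, -3],
  [-1, -1, -1, -1, -1, 1, -1, -1, -1, -1, -1, -1, -1, 1, 1, -1, -1, 1, 1, -1, 1, 1, -1, -3],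
  [-2, 0, 0, -2, 0, 0, 0, 0, 0, 0, 0, 0, 0, -2, -2, 0, -2, 0, 0, -2, 0, -2, 0, -2],
  [-1, -1, 1, -1, -1, 1, -1, -1, -1, 1, 1, -1, -1, -1, 1, -1, -1, -1, -1, 1, -1, 1, -1, -3],
  [-2, 0, 0, 0, -2, 0, 0, -2, 0, -2, -2, 0, 0, -2, 0, 0, 0, 0, 0, -2, 0, 0, 0, -2]]

/-- Fifteen cliques of seven fixed vectors. -/
def ptL : List (List (Fin 35)) := [
  [0, 1, 3, 4, 5, 8, 16],
  [0, 2, 6, 22, 24, 26, 31],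
  [0, 7, 10, 17, 18, 19, 30],
  [1, 2, 13, 17, 21, 23, 27],
  [1, 11, 14, 15, 22, 25, 30],
  [2, 4, 9, 28, 29, 30, 33],
  [4, 12, 17, 20, 22, 32, 34],
  [3, 6, 12, 15, 18, 23, 33],
  [3, 7, 9, 13, 14, 20, 24],
  [6, 7, 16, 21, 25, 28, 32],
  [11, 16, 18, 24, 27, 29, 34],
  [8, 10, 14, 23, 28, 31, 34],
  [8, 13, 15, 19, 26, 29, 32],
  [5, 11, 19, 20, 21, 31, 33],
  [5, 9, 10, 12, 25, 26, 27]]

/-- Coefficients of three times the frame vector. -/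
def coefF : List ℤ := [-1, 1, -2, -1, -1, -3, 2, 0, 1, 2, 0, 2, 0, 0, -2, -2, 0, 0, 0, 0, 0, 0, 0, 0, 0, 0, 0, 0, 0, 0, 0, 0, 0, 0, 0]

/-- Coefficient of `u`. -/
def coefU : ℤ := 1

/-- Coefficient of `v`. -/
def coefV : ℤ := 0

/-- Representatives of the eight two-cycles. -/
def reps : List ℕ := [1, 3, 4, 6, 9, 11, 14, 17]

/-- A square root of the involution. -/
def rootZ : List ℕ := [0, 10, 20, 21, 17, 5, 11, 18, 8, 1, 15, 12, 22, 19, 3, 9, 14, 7, 4, 13, 2, 16, 6, 23]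

/-- Conjugators of the involutions of the Sylow group to the central one. -/
def conjs : List (List ℕ × List ℕ) := [
  ([0, 12, 2, 9, 21, 5, 15, 14, 8, 3, 16, 18, 1, 13, 7, 6, 10, 22, 11, 19, 20, 4, 17, 23],
    [0, 6, 13, 4, 10, 20, 18, 14, 19, 7, 16, 11, 12, 8, 21, 17, 3, 15, 22, 2, 5, 9, 1, 23]),
  ([0, 9, 2, 12, 18, 5, 16, 17, 8, 1, 15, 21, 3, 13, 22, 10, 6, 7, 4, 19, 20, 11, 14, 23],
    [0, 12, 20, 9, 7, 19, 15, 17, 8, 6, 16, 22, 10, 13, 21, 3, 1, 18, 4, 5, 2, 11, 14, 23]),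
  ([0, 18, 2, 21, 9, 5, 22, 10, 8, 4, 7, 12, 11, 13, 16, 17, 14, 15, 1, 19, 20, 3, 6, 23],
    [0, 4, 2, 22, 21, 13, 10, 6, 20, 14, 12, 17, 18, 8, 16, 15, 3, 1, 7, 5, 19, 11, 9, 23]),
  ([0, 1, 20, 21, 7, 8, 11, 4, 5, 10, 9, 6, 22, 13, 16, 15, 14, 17, 18, 19, 2, 3, 12, 23],
    [0, 8, 22, 15, 21, 6, 9, 14, 12, 3, 16, 10, 4, 13, 17, 5, 18, 2, 20, 19, 11, 1, 7, 23]),
  ([0, 15, 2, 16, 7, 5, 12, 4, 8, 10, 9, 22, 6, 13, 21, 1, 3, 18, 17, 19, 20, 14, 11, 23],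
    [0, 1, 2, 3, 4, 5, 6, 7, 8, 9, 10, 11, 12, 13, 14, 15, 16, 17, 18, 19, 20, 21, 22, 23]),
  ([0, 3, 2, 1, 11, 5, 10, 22, 8, 12, 6, 4, 9, 13, 17, 16, 15, 14, 21, 19, 20, 18, 7, 23],
    [0, 16, 13, 3, 22, 19, 12, 15, 20, 17, 6, 11, 18, 2, 21, 7, 4, 14, 10, 8, 5, 9, 1, 23]),
  ([0, 11, 2, 4, 3, 5, 17, 16, 8, 21, 14, 1, 18, 13, 10, 22, 7, 6, 12, 19, 20, 9, 15, 23],
    [0, 10, 5, 4, 7, 2, 12, 16, 8, 15, 22, 9, 18, 20, 11, 14, 3, 6, 17, 19, 13, 1, 21, 23]),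
  ([0, 6, 2, 10, 14, 5, 1, 21, 8, 16, 3, 17, 15, 13, 4, 12, 9, 11, 22, 19, 20, 7, 18, 23],
    [0, 10, 13, 1, 16, 8, 9, 7, 2, 22, 15, 12, 21, 20, 3, 14, 11, 6, 17, 19, 5, 4, 18, 23]),
  ([0, 15, 2, 12, 17, 19, 16, 18, 13, 10, 9, 11, 3, 8, 14, 1, 6, 4, 7, 5, 20, 21, 22, 23],
    [0, 16, 2, 11, 10, 17, 21, 15, 4, 6, 12, 13, 22, 7, 19, 3, 14, 9, 1, 18, 20, 5, 8, 23]),
  ([0, 1, 20, 22, 4, 5, 14, 7, 8, 10, 9, 16, 21, 19, 6, 15, 11, 18, 17, 13, 2, 12, 3, 23],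
    [0, 13, 12, 9, 2, 8, 1, 20, 5, 22, 11, 18, 4, 21, 15, 19, 17, 16, 3, 14, 6, 7, 10, 23]),
  ([0, 4, 2, 11, 1, 5, 14, 15, 8, 18, 17, 3, 21, 13, 6, 7, 22, 10, 9, 19, 20, 12, 16, 23],
    [0, 10, 5, 1, 9, 19, 3, 7, 13, 11, 6, 15, 14, 8, 16, 4, 17, 12, 22, 20, 2, 21, 18, 23]),
  ([0, 10, 2, 6, 17, 5, 3, 18, 8, 15, 1, 14, 16, 13, 11, 9, 12, 4, 7, 19, 20, 22, 21, 23],
    [0, 12, 20, 11, 1, 5, 22, 10, 19, 3, 6, 18, 21, 13, 17, 16, 14, 15, 9, 8, 2, 4, 7, 23]),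
  ([0, 15, 20, 11, 7, 5, 21, 4, 8, 9, 10, 3, 14, 19, 12, 1, 22, 17, 18, 13, 2, 6, 16, 23],
    [0, 22, 12, 4, 3, 8, 17, 16, 5, 13, 19, 7, 9, 21, 10, 11, 1, 20, 2, 14, 6, 18, 15, 23]),
  ([0, 7, 20, 3, 15, 5, 12, 1, 8, 18, 17, 11, 6, 19, 21, 4, 16, 10, 9, 13, 2, 14, 22, 23],
    [0, 9, 12, 13, 18, 8, 11, 10, 5, 4, 1, 2, 22, 21, 16, 17, 19, 15, 7, 14, 6, 3, 20, 23]),
  ([0, 9, 2, 3, 17, 8, 6, 18, 5, 1, 15, 22, 12, 19, 21, 10, 16, 4, 7, 13, 20, 14, 11, 23],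
    [0, 10, 20, 13, 17, 16, 8, 4, 3, 9, 1, 21, 5, 6, 11, 15, 19, 18, 7, 12, 2, 22, 14, 23]),
  ([0, 10, 2, 3, 7, 19, 6, 4, 13, 15, 1, 21, 12, 8, 22, 9, 16, 18, 17, 5, 20, 11, 14, 23],
    [0, 9, 2, 13, 3, 18, 19, 16, 7, 15, 10, 22, 5, 4, 14, 1, 8, 6, 12, 17, 20, 11, 21, 23]),
  ([0, 4, 20, 16, 1, 5, 6, 15, 8, 17, 18, 22, 12, 19, 14, 7, 3, 9, 10, 13, 2, 21, 11, 23],
    [0, 4, 12, 22, 7, 8, 19, 15, 5, 9, 17, 3, 13, 21, 20, 1, 11, 10, 18, 14, 6, 2, 16, 23]),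
  ([0, 18, 20, 3, 10, 8, 12, 9, 5, 7, 4, 22, 6, 13, 14, 17, 16, 15, 1, 19, 2, 21, 11, 23],
    [0, 15, 22, 8, 10, 6, 16, 7, 12, 4, 9, 21, 3, 13, 2, 18, 5, 17, 1, 19, 11, 20, 14, 23]),
  ([0, 17, 2, 14, 10, 5, 11, 9, 8, 7, 4, 6, 22, 13, 3, 18, 21, 1, 15, 19, 20, 16, 12, 23],
    [0, 11, 5, 3, 15, 8, 4, 10, 19, 9, 1, 7, 18, 20, 16, 21, 12, 22, 14, 2, 13, 6, 17, 23]),
  ([0, 10, 2, 16, 18, 8, 12, 17, 5, 15, 1, 11, 6, 19, 14, 9, 3, 7, 4, 13, 20, 21, 22, 23],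
    [0, 18, 20, 21, 15, 12, 11, 10, 6, 4, 17, 5, 22, 3, 19, 7, 14, 9, 1, 16, 2, 13, 8, 23]),
  ([0, 15, 20, 14, 4, 8, 22, 7, 5, 9, 10, 12, 11, 13, 3, 1, 21, 18, 17, 19, 2, 16, 6, 23],
    [0, 16, 12, 18, 19, 14, 15, 13, 21, 20, 2, 4, 7, 5, 17, 3, 10, 22, 11, 8, 6, 9, 1, 23]),
  ([0, 21, 2, 18, 12, 5, 7, 6, 8, 11, 22, 9, 4, 13, 15, 14, 17, 16, 3, 19, 20, 1, 10, 23],
    [0, 16, 5, 9, 15, 20, 11, 22, 19, 6, 17, 12, 1, 2, 4, 7, 21, 14, 10, 8, 13, 3, 18, 23]),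
  ([0, 16, 2, 15, 22, 5, 9, 11, 8, 6, 12, 7, 10, 13, 18, 3, 1, 21, 14, 19, 20, 17, 4, 23],
    [0, 15, 13, 11, 17, 2, 21, 6, 8, 14, 10, 12, 9, 19, 3, 22, 1, 7, 16, 20, 5, 4, 18, 23]),
  ([0, 22, 2, 7, 16, 5, 18, 3, 8, 14, 21, 15, 17, 13, 9, 11, 4, 12, 6, 19, 20, 10, 1, 23],
    [0, 6, 5, 9, 14, 19, 11, 10, 20, 16, 7, 18, 1, 8, 3, 17, 21, 15, 22, 2, 13, 4, 12, 23]),
  ([0, 17, 20, 16, 9, 8, 6, 10, 5, 4, 7, 11, 12, 13, 21, 18, 3, 1, 15, 19, 2, 14, 22, 23],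
    [0, 4, 22, 3, 1, 6, 5, 17, 12, 15, 18, 20, 8, 13, 14, 9, 16, 7, 10, 19, 11, 21, 2, 23]),
  ([0, 1, 2, 6, 18, 19, 3, 17, 13, 9, 10, 22, 16, 8, 21, 15, 12, 7, 4, 5, 20, 14, 11, 23],
    [0, 5, 2, 15, 11, 18, 1, 14, 7, 13, 8, 12, 9, 4, 16, 19, 10, 21, 22, 17, 20, 3, 6, 23]),
  ([0, 1, 2, 12, 7, 8, 16, 4, 5, 9, 10, 14, 3, 19, 11, 15, 6, 18, 17, 13, 20, 22, 21, 23],
    [0, 19, 20, 15, 14, 16, 9, 21, 3, 8, 5, 4, 1, 6, 7, 13, 10, 22, 11, 12, 2, 18, 17, 23]),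
  ([0, 7, 2, 22, 15, 5, 21, 1, 8, 17, 18, 16, 14, 13, 12, 4, 11, 9, 10, 19, 20, 6, 3, 23],
    [0, 16, 20, 10, 14, 13, 12, 3, 19, 17, 1, 7, 22, 5, 11, 21, 4, 18, 15, 2, 8, 6, 9, 23]),
  ([0, 15, 2, 6, 4, 8, 3, 7, 5, 10, 9, 21, 16, 19, 22, 1, 12, 17, 18, 13, 20, 11, 14, 23],
    [0, 22, 20, 4, 13, 12, 7, 19, 6, 21, 14, 1, 18, 3, 10, 11, 17, 8, 5, 16, 2, 15, 9, 23]),
  ([0, 14, 2, 17, 6, 5, 4, 12, 8, 22, 11, 10, 7, 13, 1, 21, 18, 3, 16, 19, 20, 15, 9, 23],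
    [0, 3, 19, 14, 1, 13, 15, 6, 8, 22, 18, 17, 12, 20, 16, 10, 4, 21, 7, 5, 2, 9, 11, 23]),
  ([0, 9, 2, 16, 4, 19, 12, 7, 13, 1, 15, 14, 6, 8, 11, 10, 3, 17, 18, 5, 20, 22, 21, 23],
    [0, 14, 2, 3, 8, 17, 6, 13, 4, 21, 22, 15, 12, 7, 1, 11, 16, 5, 19, 18, 20, 9, 10, 23]),
  ([0, 9, 2, 6, 7, 13, 3, 4, 19, 1, 15, 11, 16, 5, 14, 10, 12, 18, 17, 8, 20, 21, 22, 23],
    [0, 17, 2, 14, 6, 1, 21, 12, 9, 18, 7, 19, 11, 15, 5, 4, 22, 3, 16, 10, 20, 13, 8, 23]),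
  ([0, 10, 2, 12, 4, 13, 16, 7, 19, 15, 1, 22, 3, 5, 21, 9, 6, 17, 18, 8, 20, 14, 11, 23],
    [0, 11, 2, 18, 13, 1, 4, 5, 9, 14, 22, 16, 17, 15, 12, 21, 7, 8, 19, 10, 20, 6, 3, 23]),
  ([0, 15, 2, 3, 18, 13, 6, 17, 19, 10, 9, 14, 12, 5, 11, 1, 16, 7, 4, 8, 20, 22, 21, 23],
    [0, 12, 20, 19, 15, 18, 8, 10, 7, 16, 3, 14, 13, 17, 21, 6, 5, 9, 1, 4, 2, 22, 11, 23]),
  ([0, 1, 2, 16, 17, 13, 12, 18, 19, 9, 10, 21, 6, 5, 22, 15, 3, 4, 7, 8, 20, 11, 14, 23],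
    [0, 13, 20, 16, 22, 18, 6, 21, 7, 19, 5, 1, 12, 17, 10, 8, 3, 11, 14, 4, 2, 15, 9, 23])]

/-- Two words commuting with the involution. -/
def wA : List Letter := [.C, .C, .Si, .C, .C, .S, .S, .Si, .Si, .Si, .X, .Ci, .X, .C, .X, .C, .X, .Ci, .X, .C, .X, .S, .S, .S, .Si, .Si, .Si, .X, .Ci, .X, .C, .X, .C, .X, .Ci, .X, .C, .X, .S, .S, .S, .C, .C, .C, .C]

/-- The second word. -/
def wB : List Letter := [.Si, .C, .C, .S, .S, .Si, .C, .C, .S, .S, .Si, .C, .C, .S, .S, .C, .Si, .Si, .Si, .X, .Ci, .X, .C, .X, .C, .X, .Ci, .X, .C, .X, .S, .S, .S, .C, .Si, .Si, .Si, .X, .Ci, .X, .C, .X, .C, .X, .Ci, .X, .C, .X, .S, .S, .S, .Si, .C, .C, .S, .S, .C, .C, .C]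

/-- The images of the points. -/
def imA : List (Fin 15) := [14, 6, 7, 0, 13, 5, 8, 12, 1, 9, 4, 11, 2, 10, 3]

/-- The images of the points, second word. -/
def imB : List (Fin 15) := [7, 14, 6, 1, 9, 12, 4, 0, 8, 13, 5, 2, 10, 11, 3]

/-- Words for the transvections. -/
def tvWords : List (Fin 4 × Fin 4 × List Bool) := [
  (0, 1, [false, true, false, false, true, false, false, true, false]),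
  (0, 2, [false, false, true, false, true, true, true, false, false, true, true, true, true, true, false]),
  (0, 3, [true, false, true, false, false, true, true, true, false, true, false, true, true, true]),
  (1, 0, [true, true, true, false, true, true, true, false, false, true, true, true]),
  (1, 2, [false, true, true, true, false, true, true, false, true, false, true, false, false, true, false, false]),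
  (1, 3, [false, true, true, true, false, false]),
  (2, 0, [true, true, false, false, true, false, true, false, true, true, false, true, false]),
  (2, 1, [true, true, true, false, false, true, true, false, true, false, true, true, false, true, false, false]),
  (2, 3, [true, false, false, true, true, true, false, false, true, true, false, true, false, true, true, false]),
  (3, 0, [true, true, true, true, false, true, false, false, true, true, true, false, true, false]),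
  (3, 1, [true, true, true, false, true, false, false, true, false, false, true, false, true, true, true]),
  (3, 2, [true, false, true, false, false, true, false, false, true, false, true, true, true, true, true])]

end CfsgLib.Fusion68.McLInv
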